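import Mathlib
import Cfsg.Agent.Lib.Zsigmondy
import Cfsg.Prelude.Def_GeometricClasses
import Cfsg.Agent.Prune
set_option linter.all false

section
prune_inst 0x7f00000000000000000000000000000000000000000000000000000000000000000000000000000000000000000000000000000000000000000000000000000000000000000000000000000000000000003fffffffffffffffffffffffffffbeffbdffffffff

-- part: H728/DghpNum
section
set_option linter.all false
open scoped Cfsg.Agent.FastGrp

/-!
# Numbers (helper728): primitive prime divisors and cyclotomic values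
-/

set_option autoImplicit false

namespace Cfsg.Agent.H728.DghpNum

open Polynomial

/-- `r` is a prime with `ord_r(q) = e`, `r ∤ q`. -/
structure Ppd (q e r : ℕ) : Prop where
  prime : r.Prime
  ord : orderOf (q : ZMod r) = e
  ndvd : ¬ r ∣ q

theorem exists_ppd {q e : ℕ} (hq : 2 ≤ q) (he : 3 ≤ e) (h6 : ¬ (q = 2 ∧ e = 6)) : ∃ r, Ppd q e r := by
  obtain ⟨r, hr, h1, -, h3⟩ := Lib.Zsigmondy.exists_primitive (a := q) (n := e) hq (by omega) (fun h => by omega) h6
  refine ⟨r, hr, ?_, h3⟩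
  apply Nat.dvd_antisymm
  · rw [← Lib.Zsigmondy.dvd_pow_sub_one_iff (by omega)]
    exact (h1 e).2 dvd_rfl
  · rw [← h1, Lib.Zsigmondy.dvd_pow_sub_one_iff (by omega)]

/-- cyclotomic values modulo `r` -/
theorem cast_cyc (m q r : ℕ) :
    ((((cyclotomic m ℤ).eval (q : ℤ) : ℤ)) : ZMod r) = (cyclotomic m (ZMod r)).eval (q : ZMod r) := by
  have e1 : (q : ZMod r) = Int.castRingHom (ZMod r) (q : ℤ) := by simp
  rw [e1, ← map_cyclotomic_int m (ZMod r), eval_map, eval₂_hom]
  rfl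

namespace Ppd

variable {q e r : ℕ} (h : Ppd q e r)

include h

theorem dvd_pred : e ∣ r - 1 := by
  rw [← h.ord]
  exact Lib.Zsigmondy.orderOf_dvd_pred h.prime h.ndvd

theorem lt : e < r := by
  have h1 := Nat.le_of_dvd (by have := h.prime.two_le; omega) h.dvd_pred
  have := h.prime.two_le
  omega

theorem pos : 0 < e := Nat.pos_of_dvd_of_pos h.dvd_pred (by have := h.prime.two_le; omega)

theorem not_dvd : ¬ r ∣ e := fun h1 => absurd (Nat.le_of_dvd h.pos h1) (by have := h.lt; omega)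

theorem q_pos : 1 ≤ q := by
  rcases Nat.eq_zero_or_pos q with h1 | h1
  · exact absurd (by rw [h1]; exact dvd_zero r) h.ndvd
  · exact h1

theorem dvd_iff (m : ℕ) : r ∣ q ^ m - 1 ↔ e ∣ m := by
  rw [Lib.Zsigmondy.dvd_pow_sub_one_iff h.q_pos, h.ord]

theorem natCast_ne {K : Type*} [Field K] [Fintype K] {k : ℕ} (hK : Fintype.card K = q ^ k) : (r : K) ≠ 0 := by
  intro h1
  obtain ⟨p, hp⟩ := CharP.exists K
  have hpp : p.Prime := CharP.char_is_prime K p
  have h2 : p ∣ r := (CharP.cast_eq_zero_iff K p r).1 h1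
  have h3 : p = r := (Nat.prime_dvd_prime_iff_eq hpp h.prime).1 h2
  subst h3
  obtain ⟨n, -, h4⟩ := FiniteField.card K p
  have h5 : p ∣ q ^ k := by
    rw [← hK, h4]
    exact dvd_pow_self p n.pos.ne'
  exact h.ndvd (h.prime.dvd_of_dvd_pow h5)

/-- the order of a power -/
theorem pow (k : ℕ) (hk : k ≠ 0) : Ppd (q ^ k) (e / Nat.gcd e k) r := by
  refine ⟨h.prime, ?_, fun h1 => h.ndvd (h.prime.dvd_of_dvd_pow h1)⟩
  rw [Nat.cast_pow, orderOf_pow' _ hk, h.ord]

theorem cyc_dvd : (r : ℤ) ∣ (cyclotomic e ℤ).eval (q : ℤ) := by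
  have : Fact r.Prime := ⟨h.prime⟩
  have : NeZero ((e : ℕ) : ZMod r) := ⟨by
    rw [Ne, ZMod.natCast_eq_zero_iff]
    exact h.not_dvd⟩
  rw [← ZMod.intCast_zmod_eq_zero_iff_dvd]
  rw [cast_cyc]
  have h2 : IsRoot (cyclotomic e (ZMod r)) (q : ZMod r) := by
    rw [isRoot_cyclotomic_iff]
    rw [← h.ord]
    exact IsPrimitiveRoot.orderOf _
  exact h2

theorem eq_of_cyc_dvd {m : ℕ} (hrm : ¬ r ∣ m) (h1 : (r : ℤ) ∣ (cyclotomic m ℤ).eval (q : ℤ)) : m = e := by
  have : Fact r.Prime := ⟨h.prime⟩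
  have : NeZero ((m : ℕ) : ZMod r) := ⟨by
    rw [Ne, ZMod.natCast_eq_zero_iff]
    exact hrm⟩
  rw [← ZMod.intCast_zmod_eq_zero_iff_dvd] at h1
  rw [cast_cyc] at h1
  have h3 : IsRoot (cyclotomic m (ZMod r)) (q : ZMod r) := h1
  rw [isRoot_cyclotomic_iff] at h3
  rw [h3.eq_orderOf, h.ord]

theorem not_dvd_cyc_nat {m : ℕ} (hrm : ¬ r ∣ m) (hme : m ≠ e) : ¬ r ∣ ((cyclotomic m ℤ).eval (q : ℤ)).natAbs := by
  rw [← Int.natCast_dvd]
  exact fun h1 => hme (h.eq_of_cyc_dvd hrm h1)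

/-- `B ≤ r` if no prime `< B` is `1` modulo `e` -/
theorem le_of {B : ℕ} (hB : ∀ n < B, n.Prime → ¬ e ∣ n - 1) : B ≤ r := by
  by_contra h1
  push Not at h1
  exact hB r h1 h.prime h.dvd_pred

end Ppd

theorem lcm_gt {e s B N : ℕ} (hs : s.Prime) (he : 0 < e) (hes : e < s) (hB : B ≤ s) (hN : N < e * B) :
    N < Nat.lcm e s := by
  rw [Nat.Coprime.lcm_eq_mul]
  · exact hN.trans_le (Nat.mul_le_mul_left e hB)
  · exact ((Nat.Prime.coprime_iff_not_dvd hs).2 fun h1 => absurd (Nat.le_of_dvd he h1) (by omega)).symm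

theorem lcm_gt' {e s B N : ℕ} (hs : s.Prime) (hes : ¬ s ∣ e) (hB : B ≤ s) (hN : N < e * B) :
    N < Nat.lcm e s := by
  rw [Nat.Coprime.lcm_eq_mul]
  · exact hN.trans_le (Nat.mul_le_mul_left e hB)
  · exact ((Nat.Prime.coprime_iff_not_dvd hs).2 hes).symm

end Cfsg.Agent.H728.DghpNum
end

-- part: H304/PpdForm
section
set_option linter.all false
open scoped Cfsg.Agent.FastGrp

/-!
# Elements of primitive prime order in linear groups over finite fields (helper304, TEAM ELUSIVE)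

`u` prime, `e` = order of `q` modulo `u`, `n < 2 e`, `x ∈ GL(ι, F)` of order `u`:
* `x` preserves a subspace `W ≠ ⊥, ⊤` → `e ≤ dim W ∨ e ≤ n - dim W`;
* `x` preserves a nondegenerate bilinear form (up to a scalar) → `e` even;
* `x` preserves a nondegenerate unitary form and `u` has order `2 e` modulo `q₀` (`q = q₀ ^ 2`) → `e` odd.
-/

set_option autoImplicit false
set_option linter.style.haveILetI false

namespace Cfsg.Agent.H304.Ppd

open Matrix Polynomial

section Count

/-- the counting argument -/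
theorem exists_pow_eq {E : Type*} [Field E] {S : Finset E} {u q e : ℕ} (hu : u.Prime)
    (hord : orderOf (q : ZMod u) = e) (hqu : ¬ u ∣ q) (hS : S.card < 2 * e) {ζ : E} (hζ : orderOf ζ = u)
    (hζS : ζ ∈ S) (hfr : ∀ l ∈ S, l ^ q ∈ S) {m : ℕ} (hm : ζ ^ m ∈ S) (hmu : ¬ u ∣ m) :
    ∃ i : ℕ, (m : ZMod u) = (q : ZMod u) ^ i := by
  classical
  haveI : Fact u.Prime := ⟨hu⟩
  by_contra hcon
  push Not at hcon
  have hq0 : (q : ZMod u) ≠ 0 := by
    rw [Ne, ZMod.natCast_eq_zero_iff]; exact hqu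
  have hm0 : (m : ZMod u) ≠ 0 := by
    rw [Ne, ZMod.natCast_eq_zero_iff]; exact hmu
  have hit : ∀ (l : E), l ∈ S → ∀ i : ℕ, l ^ (q ^ i) ∈ S := by
    intro l hl i
    induction i with
    | zero => simpa using hl
    | succ i ih =>
      rw [pow_succ, pow_mul]
      exact hfr _ ih
  have hfo : IsOfFinOrder ζ := by
    rw [← orderOf_pos_iff, hζ]; exact hu.pos
  have hinj : ∀ a b : ℕ, ζ ^ a = ζ ^ b → (a : ZMod u) = b := by
    intro a b h
    rw [ZMod.natCast_eq_natCast_iff, ← hζ]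
    exact (hfo.pow_eq_pow_iff_modEq).mp h
  have hqinj : ∀ i j : ℕ, i < e → j < e → (q : ZMod u) ^ i = (q : ZMod u) ^ j → i = j := by
    intro i j hi hj h
    rw [← hord] at hi hj
    exact pow_injOn_Iio_orderOf hi hj h
  let f : Fin e ⊕ Fin e → E := Sum.elim (fun i => ζ ^ (q ^ (i : ℕ))) (fun i => (ζ ^ m) ^ (q ^ (i : ℕ)))
  have hfinj : Function.Injective f := by
    rintro (i | i) (j | j) h
    · have := hinj _ _ h
      push_cast at this
      exact congrArg _ (Fin.ext (hqinj _ _ i.2 j.2 this))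
    · exfalso
      have h1 : ζ ^ (q ^ (i : ℕ)) = ζ ^ (m * q ^ (j : ℕ)) := by rw [pow_mul]; exact h
      have h2 := hinj _ _ h1
      push_cast at h2
      apply hcon ((i : ℕ) + (e - j))
      have h3 : (q : ZMod u) ^ ((j : ℕ) + (e - j)) = 1 := by
        rw [show (j : ℕ) + (e - j) = e by omega, ← hord, pow_orderOf_eq_one]
      calc (m : ZMod u) = m * (q : ZMod u) ^ ((j : ℕ) + (e - j)) := by rw [h3, mul_one]
        _ = (m * (q : ZMod u) ^ (j : ℕ)) * (q : ZMod u) ^ (e - j) := by rw [pow_add, mul_assoc]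
        _ = _ := by rw [← h2, pow_add]
    · exfalso
      have h1 : ζ ^ (q ^ (j : ℕ)) = ζ ^ (m * q ^ (i : ℕ)) := by rw [pow_mul]; exact h.symm
      have h2 := hinj _ _ h1
      push_cast at h2
      apply hcon ((j : ℕ) + (e - i))
      have h3 : (q : ZMod u) ^ ((i : ℕ) + (e - i)) = 1 := by
        rw [show (i : ℕ) + (e - i) = e by omega, ← hord, pow_orderOf_eq_one]
      calc (m : ZMod u) = m * (q : ZMod u) ^ ((i : ℕ) + (e - i)) := by rw [h3, mul_one]
        _ = (m * (q : ZMod u) ^ (i : ℕ)) * (q : ZMod u) ^ (e - i) := by rw [pow_add, mul_assoc]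
        _ = _ := by rw [← h2, pow_add]
    · have h1 : ζ ^ (m * q ^ (i : ℕ)) = ζ ^ (m * q ^ (j : ℕ)) := by
        rw [pow_mul, pow_mul]; exact h
      have h2 := hinj _ _ h1
      push_cast at h2
      exact congrArg _ (Fin.ext (hqinj _ _ i.2 j.2 (mul_left_cancel₀ hm0 h2)))
  have hfS : ∀ a, f a ∈ S := by
    rintro (i | i)
    · exact hit _ hζS _
    · exact hit _ hm _
  have h1 : (Finset.univ.image f).card ≤ S.card := Finset.card_le_card (by
    intro y hy
    obtain ⟨a, -, rfl⟩ := Finset.mem_image.mp hy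
    exact hfS a)
  rw [Finset.card_image_of_injective _ hfinj, Finset.card_univ, Fintype.card_sum, Fintype.card_fin] at h1
  omega

/-- `-1` is a power of `q` modulo `u` only if the order of `q` is even -/
theorem even_of_neg_one {u q e : ℕ} (hu : u.Prime) (hu2 : u ≠ 2) (hord : orderOf (q : ZMod u) = e)
    {i : ℕ} (h : (-1 : ZMod u) = (q : ZMod u) ^ i) : Even e := by
  haveI : Fact u.Prime := ⟨hu⟩
  have hu3 : 2 < u := lt_of_le_of_ne hu.two_le (Ne.symm hu2)
  haveI : Fact (2 < u) := ⟨hu3⟩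
  by_contra hodd
  rw [Nat.not_even_iff_odd] at hodd
  have h1 : (q : ZMod u) ^ (2 * i) = 1 := by
    rw [mul_comm, pow_mul, ← h]; ring
  have h2 : e ∣ 2 * i := by rw [← hord]; exact orderOf_dvd_of_pow_eq_one h1
  have h3 : e ∣ i := (Nat.Coprime.dvd_mul_left hodd.coprime_two_right).mp h2
  have h4 : (q : ZMod u) ^ i = 1 := by
    rw [← hord] at h3; exact orderOf_dvd_iff_pow_eq_one.mp h3
  rw [h4] at h
  exact ZMod.neg_one_ne_one h

theorem odd_of_neg {u q q₀ e : ℕ} (hq : q = q₀ ^ 2) (hq0 : (q₀ : ZMod u) ≠ 0) (hu : u.Prime)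
    (hord : orderOf (q₀ : ZMod u) = 2 * e) (he : 0 < e)
    {i : ℕ} (h : (-(q₀ : ZMod u)) = (q : ZMod u) ^ i) : Odd e := by
  haveI : Fact u.Prime := ⟨hu⟩
  have h1 : (q₀ : ZMod u) ^ 2 = (q₀ : ZMod u) ^ (4 * i) := by
    have : (-(q₀ : ZMod u)) ^ 2 = ((q : ZMod u) ^ i) ^ 2 := by rw [h]
    rw [neg_sq, hq] at this
    push_cast at this
    rw [this]; ring
  rcases Nat.eq_zero_or_pos i with hi | hi
  · subst hi
    have h2 : (q₀ : ZMod u) ^ 2 = 1 := by rw [h1]; simp
    have h3 : 2 * e ∣ 2 := by rw [← hord]; exact orderOf_dvd_of_pow_eq_one h2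
    have h4 : e = 1 := by
      have := Nat.le_of_dvd (by norm_num) h3
      omega
    rw [h4]; exact odd_one
  · have h2 : (q₀ : ZMod u) ^ (4 * i - 2) = 1 := by
      have h3 : (q₀ : ZMod u) ^ (4 * i) = (q₀ : ZMod u) ^ (4 * i - 2) * (q₀ : ZMod u) ^ 2 := by
        rw [← pow_add]; congr 1; omega
      rw [h3] at h1
      have h4 : (q₀ : ZMod u) ^ 2 ≠ 0 := pow_ne_zero _ hq0
      exact (mul_right_cancel₀ h4 (by rw [one_mul]; exact h1)).symm
    have h3 : 2 * e ∣ 4 * i - 2 := by rw [← hord]; exact orderOf_dvd_of_pow_eq_one h2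
    have h4 : e ∣ 2 * i - 1 := by
      have : 4 * i - 2 = 2 * (2 * i - 1) := by omega
      rw [this] at h3
      exact Nat.dvd_of_mul_dvd_mul_left (by norm_num) h3
    have h5 : Odd (2 * i - 1) := ⟨i - 1, by omega⟩
    exact Odd.of_dvd_nat h5 h4

end Count

section Eig

variable {ι : Type*} [Fintype ι] [DecidableEq ι] {F E : Type*} [Field F] [Field E] [Algebra F E]

/-- `l` is an eigenvalue of `A` in `E` -/
def Ev (E : Type*) [Field E] [Algebra F E] (A : Matrix ι ι F) (l : E) : Prop :=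
  (A.map (algebraMap F E) - l • (1 : Matrix ι ι E)).det = 0

theorem ev_iff {A : Matrix ι ι F} {l : E} :
    Ev E A l ↔ ∃ v : ι → E, v ≠ 0 ∧ A.map (algebraMap F E) *ᵥ v = l • v := by
  rw [Ev, ← Matrix.exists_mulVec_eq_zero_iff]
  refine exists_congr fun v => and_congr_right fun _ => ?_
  rw [Matrix.sub_mulVec, Matrix.smul_mulVec, Matrix.one_mulVec, sub_eq_zero]

theorem Ev.pow {A : Matrix ι ι F} {l : E} (h : Ev E A l) {k : ℕ} (hA : A ^ k = 1) : l ^ k = 1 := by
  obtain ⟨v, hv, h1⟩ := ev_iff.mp h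
  have h2 : ∀ j : ℕ, (A ^ j).map (algebraMap F E) *ᵥ v = l ^ j • v := by
    intro j
    induction j with
    | zero => simp
    | succ j ih =>
      rw [pow_succ', Matrix.map_mul, ← Matrix.mulVec_mulVec, ih, Matrix.mulVec_smul, h1, smul_smul, pow_succ]
  have h3 := h2 k
  rw [hA, Matrix.map_one _ (map_zero _) (map_one _), Matrix.one_mulVec] at h3
  obtain ⟨i, hi⟩ := Function.ne_iff.mp hv
  have h4 := congrFun h3 i
  rw [Pi.smul_apply, smul_eq_mul] at h4
  have h5 : (l ^ k - 1) * v i = 0 := by rw [sub_mul, one_mul, ← h4, sub_self]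
  exact sub_eq_zero.mp ((mul_eq_zero.mp h5).resolve_right hi)

theorem ev_transpose {A : Matrix ι ι F} {l : E} : Ev E Aᵀ l ↔ Ev E A l := by
  rw [Ev, Ev, ← Matrix.det_transpose]
  have : (Aᵀ.map (algebraMap F E) - l • (1 : Matrix ι ι E))ᵀ = A.map (algebraMap F E) - l • 1 := by
    ext i j
    simp [Matrix.one_apply, eq_comm]
  rw [this]

theorem Ev.conj {A B G : Matrix ι ι F} {l : E} (hG : G.det ≠ 0) (h : A * G = G * B) (hl : Ev E B l) :
    Ev E A l := by
  obtain ⟨v, hv, h1⟩ := ev_iff.mp hl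
  refine ev_iff.mpr ⟨G.map (algebraMap F E) *ᵥ v, ?_, ?_⟩
  · intro h0
    have h2 : (G.map (algebraMap F E)).det = 0 := Matrix.exists_mulVec_eq_zero_iff.mp ⟨v, hv, h0⟩
    rw [← RingHom.mapMatrix_apply, ← RingHom.map_det] at h2
    exact hG ((map_eq_zero _).mp h2)
  · rw [Matrix.mulVec_mulVec, ← Matrix.map_mul, h, Matrix.map_mul, ← Matrix.mulVec_mulVec, h1,
      Matrix.mulVec_smul]

theorem Ev.inv {A B : Matrix ι ι F} {l : E} (hAB : A * B = 1) (hl : Ev E B l) : Ev E A l⁻¹ ∧ l ≠ 0 := by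
  obtain ⟨v, hv, h1⟩ := ev_iff.mp hl
  have h2 : l • (A.map (algebraMap F E) *ᵥ v) = v := by
    rw [← Matrix.mulVec_smul, ← h1, Matrix.mulVec_mulVec, ← Matrix.map_mul, hAB,
      Matrix.map_one _ (map_zero _) (map_one _), Matrix.one_mulVec]
  have hl0 : l ≠ 0 := by
    rintro rfl
    rw [zero_smul] at h2
    exact hv h2.symm
  refine ⟨ev_iff.mpr ⟨v, hv, ?_⟩, hl0⟩
  rw [eq_inv_smul_iff₀ hl0]
  exact h2

/-- transport along a field endomorphism -/
theorem Ev.map {A B : Matrix ι ι F} {l : E} (φ : E →+* E)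
    (h : ∀ i j, φ (algebraMap F E (A i j)) = algebraMap F E (B i j)) (hl : Ev E A l) : Ev E B (φ l) := by
  obtain ⟨v, hv, h1⟩ := ev_iff.mp hl
  refine ev_iff.mpr ⟨fun i => φ (v i), ?_, ?_⟩
  · obtain ⟨i, hi⟩ := Function.ne_iff.mp hv
    intro h0
    exact hi ((map_eq_zero φ).mp (congrFun h0 i))
  · ext i
    have h2 := congrArg φ (congrFun h1 i)
    simp only [Matrix.mulVec, dotProduct, Matrix.map_apply, Pi.smul_apply, smul_eq_mul, map_sum, map_mul, h] at h2 ⊢
    exact h2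

/-- the eigenvalues form a finite set of at most `n` elements -/
theorem exists_finset (A : Matrix ι ι F) :
    ∃ S : Finset E, (∀ l : E, l ∈ S ↔ Ev E A l) ∧ S.card ≤ Fintype.card ι := by
  classical
  set P := (A.map (algebraMap F E)).charpoly with hP
  have hP0 : P ≠ 0 := (Matrix.charpoly_monic _).ne_zero
  refine ⟨P.roots.toFinset, ?_, ?_⟩
  · intro l
    rw [Multiset.mem_toFinset, Polynomial.mem_roots hP0, Polynomial.IsRoot.def, hP, Matrix.eval_charpoly, Ev,
      ← neg_sub, Matrix.det_neg]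
    have h1 : ((-1 : E) ^ Fintype.card ι) ≠ 0 := pow_ne_zero _ (neg_ne_zero.mpr one_ne_zero)
    rw [mul_eq_zero, or_iff_right h1]
    have h2 : l • (1 : Matrix ι ι E) = scalar ι l := by
      rw [Matrix.smul_one_eq_diagonal]; rfl
    rw [h2]
  · refine (Multiset.toFinset_card_le _).trans ((Polynomial.card_roots' _).trans ?_)
    rw [hP, Matrix.charpoly_natDegree_eq_dim]

/-- a nontrivial element of prime order different from the characteristic has an eigenvalue `≠ 1` -/
theorem exists_ev_ne_one [IsAlgClosed E] {A : Matrix ι ι F} {u : ℕ} (hu : u.Prime) (huE : (u : E) ≠ 0)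
    (hA : A ^ u = 1) (hA1 : A ≠ 1) : ∃ l : E, Ev E A l ∧ l ≠ 1 := by
  classical
  set B := A.map (algebraMap F E) with hB
  have hinj : Function.Injective (algebraMap F E) := (algebraMap F E).injective
  have hB1 : B ≠ 1 := by
    intro h
    apply hA1
    apply Matrix.map_injective hinj
    show A.map (algebraMap F E) = (1 : Matrix ι ι F).map (algebraMap F E)
    rw [← hB, h, Matrix.map_one _ (map_zero _) (map_one _)]
  have hBu : B ^ u = 1 := by
    rw [hB, ← Matrix.map_pow, hA, Matrix.map_one _ (map_zero _) (map_one _)]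
  -- a vector killed by `1 + B + ... + B ^ (u - 1)`
  obtain ⟨w, hw0, hw⟩ : ∃ w : ι → E, w ≠ 0 ∧ (∑ i ∈ Finset.range u, B ^ i) *ᵥ w = 0 := by
    rw [Matrix.exists_mulVec_eq_zero_iff]
    by_contra hdet
    have h1 : (∑ i ∈ Finset.range u, B ^ i) * (B - 1) = 0 := by
      rw [geom_sum_mul, hBu, sub_self]
    apply hB1
    have h2 : IsUnit (∑ i ∈ Finset.range u, B ^ i) := by
      rw [Matrix.isUnit_iff_isUnit_det]
      exact isUnit_iff_ne_zero.mpr hdet
    have h3 := (h2.mul_right_eq_zero).mp h1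
    exact sub_eq_zero.mp h3
  -- the polynomial splits
  set P : E[X] := ∑ i ∈ Finset.range u, X ^ i with hP
  have hsplit : P.Splits := IsAlgClosed.splits P
  have hPB : (aeval B P) *ᵥ w = 0 := by
    rw [hP, map_sum]
    simp only [map_pow, aeval_X]
    exact hw
  have hmon : P.Monic := by
    rw [hP]
    exact Polynomial.monic_geom_sum_X hu.ne_zero
  have hprod : P = (P.roots.map fun a => X - C a).prod := by
    have := hsplit.eq_prod_roots
    rw [hmon.leadingCoeff, C_1, one_mul] at this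
    exact this
  have hroot : ∀ a ∈ P.roots, a ≠ 1 := by
    rintro a ha rfl
    have h1 := (Polynomial.mem_roots hmon.ne_zero).mp ha
    rw [Polynomial.IsRoot.def, hP, Polynomial.eval_finsetSum] at h1
    simp only [eval_pow, eval_X, one_pow, Finset.sum_const, Finset.card_range, nsmul_eq_mul, mul_one] at h1
    exact huE h1
  -- some factor is not injective
  have key : ∀ (s : Multiset E), (∀ a ∈ s, a ≠ 1) → ∀ w : ι → E, w ≠ 0 →
      (aeval B (s.map fun a => X - C a).prod) *ᵥ w = 0 → ∃ l : E, l ≠ 1 ∧ ∃ v : ι → E, v ≠ 0 ∧ B *ᵥ v = l • v := by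
    intro s
    induction s using Multiset.induction_on with
    | empty =>
      intro _ w hw0 hw
      exfalso
      simp at hw
      exact hw0 hw
    | cons a s ih =>
      intro hs w hw0 hw
      rw [Multiset.map_cons, Multiset.prod_cons, mul_comm, map_mul, ← Matrix.mulVec_mulVec] at hw
      by_cases h1 : (aeval B (X - C a : E[X])) *ᵥ w = 0
      · refine ⟨a, hs a (Multiset.mem_cons_self a s), w, hw0, ?_⟩
        rw [map_sub, aeval_X, aeval_C, Matrix.sub_mulVec, sub_eq_zero, Algebra.algebraMap_eq_smul_one,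
          Matrix.smul_mulVec, Matrix.one_mulVec] at h1
        exact h1
      · exact ih (fun b hb => hs b (Multiset.mem_cons_of_mem hb)) _ h1 hw
  obtain ⟨l, hl, v, hv, hvl⟩ := key P.roots hroot w hw0 (by rw [← hprod]; exact hPB)
  exact ⟨l, ev_iff.mpr ⟨v, hv, hvl⟩, hl⟩

end Eig

section Forms

variable {ι : Type*} [Fintype ι] [DecidableEq ι] {F : Type*} [Field F] [Fintype F]

theorem prime_ne_zero_of_not_dvd {u : ℕ} (hu : u.Prime) (hqu : ¬ u ∣ Fintype.card F) (E : Type*) [Field E]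
    [Algebra F E] : (u : E) ≠ 0 := by
  obtain ⟨p, hp⟩ := CharP.exists F
  have hpp : p.Prime := CharP.char_is_prime F p
  have hpE : CharP E p := charP_of_injective_algebraMap (algebraMap F E).injective p
  intro h
  have h1 : p ∣ u := (CharP.cast_eq_zero_iff E p u).mp h
  have h2 : p = u := (Nat.prime_dvd_prime_iff_eq hpp hu).mp h1
  obtain ⟨k, -, hk⟩ := FiniteField.card F p
  apply hqu
  rw [hk, ← h2]
  exact dvd_pow_self p k.ne_zero

/-- Common part: an element of order `u`, whose set of eigenvalues contains with `ζ` also `ζ ^ m`. -/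
theorem exists_exponent {u e : ℕ} (hu : u.Prime) (hord : orderOf ((Fintype.card F : ℕ) : ZMod u) = e)
    (hqu : ¬ u ∣ Fintype.card F) (hn : Fintype.card ι < 2 * e) {x : GL ι F} (hx : orderOf x = u) {m : ℕ}
    (hmu : ¬ u ∣ m)
    (hm : ∀ l : AlgebraicClosure F, l ^ u = 1 → Ev (AlgebraicClosure F) (x : Matrix ι ι F) l →
      Ev (AlgebraicClosure F) (x : Matrix ι ι F) (l ^ m)) :
    ∃ i : ℕ, (m : ZMod u) = ((Fintype.card F : ℕ) : ZMod u) ^ i := by
  classical
  have hxu : (x : Matrix ι ι F) ^ u = 1 := by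
    rw [← Units.val_pow_eq_pow_val, ← hx, pow_orderOf_eq_one, Units.val_one]
  have hx1 : (x : Matrix ι ι F) ≠ 1 := by
    intro h
    have : x = 1 := Units.ext h
    rw [this, orderOf_one] at hx
    exact hu.one_lt.ne hx
  obtain ⟨ζ, hζ, hζ1⟩ := exists_ev_ne_one (E := AlgebraicClosure F) hu
    (prime_ne_zero_of_not_dvd hu hqu _) hxu hx1
  have hζu : ζ ^ u = 1 := hζ.pow hxu
  haveI : Fact u.Prime := ⟨hu⟩
  have hζo : orderOf ζ = u := orderOf_eq_prime hζu hζ1
  obtain ⟨S, hS, hScard⟩ := exists_finset (E := AlgebraicClosure F) (x : Matrix ι ι F)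
  refine exists_pow_eq hu hord hqu (hScard.trans_lt hn) hζo ((hS ζ).mpr hζ) ?_ ((hS _).mpr (hm ζ hζu hζ)) hmu
  intro l hl
  rw [hS] at hl ⊢
  exact hl.map (FiniteField.frobeniusAlgHom F (AlgebraicClosure F)).toRingHom (fun i j =>
    (FiniteField.frobeniusAlgHom F (AlgebraicClosure F)).commutes _)

/-- **bilinear forms**: `e` is even. -/
theorem even_of_gram {u e : ℕ} (hu : u.Prime) (hu2 : u ≠ 2)
    (hord : orderOf ((Fintype.card F : ℕ) : ZMod u) = e)
    (hqu : ¬ u ∣ Fintype.card F) (hn : Fintype.card ι < 2 * e) {x : GL ι F} (hx : orderOf x = u)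
    {G : Matrix ι ι F} (hG : G.det ≠ 0)
    (h : (x : Matrix ι ι F)ᵀ * G * (x : Matrix ι ι F) = G) : Even e := by
  haveI : Fact u.Prime := ⟨hu⟩
  have hmu : ¬ u ∣ u - 1 := fun h => absurd (Nat.le_of_dvd (by have := hu.two_le; omega) h) (by
    have := hu.two_le; omega)
  obtain ⟨i, hi⟩ := exists_exponent hu hord hqu hn hx hmu (by
    intro l hlu hl
    have h1 : ((x⁻¹ : GL ι F) : Matrix ι ι F) * (x : Matrix ι ι F) = 1 := by
      rw [← Units.val_mul, inv_mul_cancel, Units.val_one]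
    obtain ⟨h2, hl0⟩ := Ev.inv h1 hl
    have h3 : (x : Matrix ι ι F)ᵀ * G = G * ((x⁻¹ : GL ι F) : Matrix ι ι F) := by
      have h4 : (x : Matrix ι ι F) * ((x⁻¹ : GL ι F) : Matrix ι ι F) = 1 := by
        rw [← Units.val_mul, mul_inv_cancel, Units.val_one]
      calc (x : Matrix ι ι F)ᵀ * G = (x : Matrix ι ι F)ᵀ * G * ((x : Matrix ι ι F) * ((x⁻¹ : GL ι F) : Matrix ι ι F)) := by
            rw [h4, mul_one]
        _ = ((x : Matrix ι ι F)ᵀ * G * (x : Matrix ι ι F)) * ((x⁻¹ : GL ι F) : Matrix ι ι F) := by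
            simp only [Matrix.mul_assoc]
        _ = _ := by rw [h]
    have h5 := ev_transpose.mp (Ev.conj hG h3 h2)
    have h6 : l ^ (u - 1) = l⁻¹ := by
      apply eq_inv_of_mul_eq_one_left
      rw [← pow_succ, Nat.sub_add_cancel hu.one_lt.le, hlu]
    rw [h6]
    exact h5)
  rw [Nat.cast_sub hu.one_lt.le, ZMod.natCast_self, zero_sub, Nat.cast_one] at hi
  exact even_of_neg_one hu hu2 hord hi

/-- **unitary forms**: `e` is odd. -/
theorem odd_of_gram {u e p k : ℕ} [Fact p.Prime] [CharP F p] (hF : Fintype.card F = (p ^ k) ^ 2) (hu : u.Prime)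
    (hord₀ : orderOf ((p ^ k : ℕ) : ZMod u) = 2 * e) (he : 0 < e)
    (hqu : ¬ u ∣ Fintype.card F) (hn : Fintype.card ι < 2 * e) {x : GL ι F} (hx : orderOf x = u)
    {G : Matrix ι ι F} (hG : G.det ≠ 0)
    (h : (x : Matrix ι ι F)ᵀ * G * (x : Matrix ι ι F).map (fun a => a ^ p ^ k) = G) : Odd e := by
  haveI : Fact u.Prime := ⟨hu⟩
  set E := AlgebraicClosure F with hE
  haveI : CharP E p := charP_of_injective_algebraMap (algebraMap F E).injective p
  haveI : ExpChar E p := ExpChar.prime Fact.out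
  haveI : ExpChar F p := ExpChar.prime Fact.out
  have hqk : ¬ u ∣ p ^ k := fun h1 => hqu (by rw [hF]; exact dvd_pow h1 two_ne_zero)
  have hord : orderOf ((Fintype.card F : ℕ) : ZMod u) = e := by
    rw [hF, Nat.cast_pow, orderOf_pow' _ two_ne_zero, hord₀]
    rw [Nat.gcd_comm, Nat.gcd_mul_right_right, Nat.mul_div_cancel_left _ (by norm_num)]
  have hmu : ¬ u ∣ (u - 1) * p ^ k := by
    intro h1
    rcases hu.dvd_mul.mp h1 with h2 | h2
    · exact absurd (Nat.le_of_dvd (by have := hu.two_le; omega) h2) (by have := hu.two_le; omega)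
    · exact hqk h2
  set B : Matrix ι ι F := (x : Matrix ι ι F).map (fun a => a ^ p ^ k) with hB
  have hfr : ∀ M : Matrix ι ι F, M.map (fun a => a ^ p ^ k) = M.map (iterateFrobenius F p k) := by
    intro M
    ext i j
    simp [iterateFrobenius_def]
  set B' : Matrix ι ι F := ((x⁻¹ : GL ι F) : Matrix ι ι F).map (fun a => a ^ p ^ k) with hB'
  have hBB : B' * B = 1 := by
    rw [hB, hB', hfr, hfr, ← Matrix.map_mul, ← Units.val_mul, inv_mul_cancel, Units.val_one,
      Matrix.map_one _ (map_zero _) (map_one _)]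
  have hBB' : B * B' = 1 := by
    rw [hB, hB', hfr, hfr, ← Matrix.map_mul, ← Units.val_mul, mul_inv_cancel, Units.val_one,
      Matrix.map_one _ (map_zero _) (map_one _)]
  obtain ⟨i, hi⟩ := exists_exponent hu hord hqu hn hx hmu (by
    intro l hlu hl
    have h1 : Ev (AlgebraicClosure F) B (l ^ p ^ k) := by
      have := hl.map (iterateFrobenius (AlgebraicClosure F) p k) (B := B) (fun i j => by
        rw [iterateFrobenius_def, hB, Matrix.map_apply, map_pow])
      rwa [iterateFrobenius_def] at this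
    obtain ⟨h2, hl0⟩ := Ev.inv hBB h1
    have h3 : (x : Matrix ι ι F)ᵀ * G = G * B' := by
      calc (x : Matrix ι ι F)ᵀ * G = (x : Matrix ι ι F)ᵀ * G * (B * B') := by
            rw [hBB', mul_one]
        _ = ((x : Matrix ι ι F)ᵀ * G * B) * B' := by
            simp only [Matrix.mul_assoc]
        _ = _ := by rw [h]
    have h5 := ev_transpose.mp (Ev.conj hG h3 h2)
    have h6 : l ^ ((u - 1) * p ^ k) = (l ^ p ^ k)⁻¹ := by
      have hl1 : l ^ (u - 1) = l⁻¹ := by
        apply eq_inv_of_mul_eq_one_left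
        rw [← pow_succ, Nat.sub_add_cancel hu.one_lt.le, hlu]
      rw [pow_mul, hl1, inv_pow]
    rw [h6]
    exact h5)
  rw [Nat.cast_mul, Nat.cast_sub hu.one_lt.le, ZMod.natCast_self, zero_sub, Nat.cast_one, neg_one_mul] at hi
  refine odd_of_neg hF ?_ hu hord₀ he hi
  rw [Ne, ZMod.natCast_eq_zero_iff]
  exact hqk

end Forms

end Cfsg.Agent.H304.Ppd

private theorem dce_999f9ed25828 : _root_.True := by
  try have : _root_.True := by simp only [_root_.Cfsg.Agent.H304.Ppd.Ev.eq_1]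
  exact _root_.True.intro
end
end
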