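import Mathlib
import Cfsg.Agent.H396.HasCG
import Cfsg.Agent.H396.Der
import Cfsg.Agent.H304.PpdForm
import Cfsg.Agent.H914.Sub
import Cfsg.Agent.FastGrp
import Cfsg.Agent.Prune
set_option linter.all false

section
prune_inst 0x7f00000000000000000000000000000000000000000000000000000000000000000000000000000000000000000000000000000000000000000000000000000000000000000000000000000000000000003fffffffffffffffffffffffffffaeffbdffffffff

-- part: H396/ClEngine
section
set_option linter.all false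
open scoped Cfsg.Agent.FastGrp

/-!
# Classical groups: `p`-local subgroups and primitive prime divisors (helper396)

`H` a finite group with a faithful linear representation `τ` over a finite field of characteristic `p`, centre of
order prime to `p`.
-/

set_option autoImplicit false
set_option linter.unusedSectionVars false

namespace Cfsg.Agent.H396.Cl

open Module

section Lift

variable {p : ℕ} [hp : Fact p.Prime] {H : Type*} [Group H] [Finite H]

/-- the preimage of a nontrivial `p`-subgroup of `H / Z(H)` contains a nontrivial `p`-subgroup normalised by the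
preimage of the normaliser -/
theorem exists_pgroup {P V : Subgroup (H ⧸ Subgroup.center H)}
    (hV : V ≠ ⊥) (hVp : IsPGroup p V) (hPV : P ≤ Subgroup.normalizer (V : Set (H ⧸ Subgroup.center H))) :
    ∃ Q : Subgroup H, Q ≠ ⊥ ∧ IsPGroup p Q ∧
      P.comap (QuotientGroup.mk' (Subgroup.center H)) ≤ Subgroup.normalizer (Q : Set H) ∧
      Q ≤ V.comap (QuotientGroup.mk' (Subgroup.center H)) := by
  classical
  set π := QuotientGroup.mk' (Subgroup.center H) with hπ
  set K := V.comap π with hK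
  obtain ⟨S⟩ : Nonempty (Sylow p ↥K) := inferInstance
  have hZK : Subgroup.center H ≤ K := by
    intro z hz
    have : π z = 1 := (QuotientGroup.eq_one_iff z).2 hz
    rw [hK, Subgroup.mem_comap, this]
    exact one_mem _
  set Z' := (Subgroup.center H).subgroupOf K with hZ'
  have hidx : Z'.index = Nat.card V := by
    have h1 : (Subgroup.center H).relIndex K = Nat.card V := by
      have h2 : Subgroup.center H = (⊥ : Subgroup (H ⧸ Subgroup.center H)).comap π := by
        rw [MonoidHom.comap_bot, hπ, QuotientGroup.ker_mk']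
      have h3 : ((⊥ : Subgroup (H ⧸ Subgroup.center H)).comap π).relIndex K = Nat.card V := by
        rw [Subgroup.relIndex_comap, hK,
          Subgroup.map_comap_eq_self_of_surjective (QuotientGroup.mk'_surjective _), Subgroup.relIndex_bot_left]
      rwa [← h2] at h3
    exact h1
  have htop : Z' ⊔ (S : Subgroup ↥K) = ⊤ := by
    rw [← Subgroup.index_eq_one]
    have h1 : (Z' ⊔ (S : Subgroup ↥K)).index ∣ Nat.card V := hidx ▸ Subgroup.index_dvd_of_le le_sup_left
    have h2 : (Z' ⊔ (S : Subgroup ↥K)).index ∣ (S : Subgroup ↥K).index := Subgroup.index_dvd_of_le le_sup_right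
    obtain ⟨k, hk⟩ := IsPGroup.iff_card.1 hVp
    rw [hk] at h1
    exact Nat.eq_one_of_dvd_coprimes (((Nat.Prime.coprime_iff_not_dvd hp.out).2 S.not_dvd_index).pow_left k) h1 h2
  have hnorm : (S : Subgroup ↥K).Normal := by
    rw [← Subgroup.normalizer_eq_top_iff, eq_top_iff, ← htop]
    refine sup_le ?_ Subgroup.le_normalizer
    intro z hz
    rw [Subgroup.mem_normalizer_iff]
    intro s
    have h1 : (z : H) ∈ Subgroup.center H := hz
    have h2 : z * s * z⁻¹ = s := by
      apply Subtype.ext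
      have := Subgroup.mem_center_iff.1 h1 s
      push_cast
      rw [← this]; group
    rw [h2]
  -- all `p`-elements of `K` are in `S`
  have hall : ∀ x : ↥K, (∃ k : ℕ, x ^ p ^ k = 1) → x ∈ (S : Subgroup ↥K) := by
    rintro x ⟨k, hk⟩
    rw [← QuotientGroup.eq_one_iff]
    have h1 : (QuotientGroup.mk x : ↥K ⧸ (S : Subgroup ↥K)) ^ p ^ k = 1 := by
      rw [← QuotientGroup.mk_pow, hk]; rfl
    have h2 : orderOf (QuotientGroup.mk x : ↥K ⧸ (S : Subgroup ↥K)) ∣ p ^ k := orderOf_dvd_of_pow_eq_one h1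
    have h3 : orderOf (QuotientGroup.mk x : ↥K ⧸ (S : Subgroup ↥K)) ∣ (S : Subgroup ↥K).index := orderOf_dvd_natCard _
    rw [← orderOf_eq_one_iff]
    exact Nat.eq_one_of_dvd_coprimes (((Nat.Prime.coprime_iff_not_dvd hp.out).2 S.not_dvd_index).pow_left k) h2 h3
  refine ⟨(S : Subgroup ↥K).map K.subtype, ?_, S.isPGroup'.map _, ?_, Subgroup.map_subtype_le _⟩
  · intro h1
    have h2 : (S : Subgroup ↥K) = ⊥ := (Subgroup.map_eq_bot_iff_of_injective _ K.subtype_injective).1 h1
    rw [h2, sup_bot_eq] at htop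
    rw [htop, Subgroup.index_top] at hidx
    exact hV ((Subgroup.card_eq_one).1 hidx.symm)
  · have key : ∀ g ∈ P.comap π, ∀ x ∈ (S : Subgroup ↥K).map K.subtype, g * x * g⁻¹ ∈ (S : Subgroup ↥K).map K.subtype := by
      rintro g hg _ ⟨x, hx, rfl⟩
      have h1 : g * (x : H) * g⁻¹ ∈ K := by
        show π (g * (x : H) * g⁻¹) ∈ V
        rw [map_mul, map_mul, map_inv]
        exact (Subgroup.mem_normalizer_iff.1 (hPV hg) _).1 x.2
      obtain ⟨k, hk⟩ := S.isPGroup' ⟨x, hx⟩
      have hk' : (x : H) ^ p ^ k = 1 := by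
        have := congrArg (fun y : ↥(S : Subgroup ↥K) => ((y : ↥K) : H)) hk
        simpa using this
      refine ⟨⟨_, h1⟩, hall _ ⟨k, ?_⟩, rfl⟩
      apply Subtype.ext
      push_cast
      rw [conj_pow, hk', mul_one, mul_inv_cancel]
    intro g hg
    rw [Subgroup.mem_normalizer_iff]
    intro x
    refine ⟨key g hg x, fun h1 => ?_⟩
    have h2 := key g⁻¹ (inv_mem hg) _ h1
    rwa [inv_inv, show g⁻¹ * (g * x * g⁻¹) * g = x by group] at h2

/-- Cauchy in the preimage -/
theorem exists_order {P : Subgroup (H ⧸ Subgroup.center H)} {u : ℕ} (hu : u.Prime) (h : u ∣ Nat.card P) :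
    ∃ x : H, orderOf x = u ∧ (QuotientGroup.mk x : H ⧸ Subgroup.center H) ∈ P := by
  have := Fact.mk hu
  have h1 : u ∣ Nat.card (P.comap (QuotientGroup.mk' (Subgroup.center H))) := by
    have h2 : (P.comap (QuotientGroup.mk' (Subgroup.center H))).map (QuotientGroup.mk' (Subgroup.center H)) = P :=
      Subgroup.map_comap_eq_self_of_surjective (QuotientGroup.mk'_surjective _) P
    rw [← h2] at h
    exact h.trans (Subgroup.card_map_dvd _ _)
  obtain ⟨x, hx⟩ := exists_prime_orderOf_dvd_card' u h1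
  exact ⟨x, by rw [← hx]; exact Subgroup.orderOf_coe x, x.2⟩

end Lift

section Lin

variable {p : ℕ} [hp : Fact p.Prime] {H : Type*} [Group H] [Finite H] {F : Type*} [Field F] [Finite F] [CharP F p]
  {ι : Type*} [Fintype ι] [DecidableEq ι] (τ : H →* Matrix ι ι F)

open Matrix

/-- the fixed space -/
def fix (Q : Subgroup H) : Submodule F (ι → F) where
  carrier := {v | ∀ g ∈ Q, τ g *ᵥ v = v}
  add_mem' := by
    intro a b ha hb g hg
    rw [mulVec_add, ha g hg, hb g hg]
  zero_mem' := by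
    intro g _
    rw [mulVec_zero]
  smul_mem' := by
    intro c a ha g hg
    rw [mulVec_smul, ha g hg]

theorem mem_fix {Q : Subgroup H} {v : ι → F} : v ∈ fix τ Q ↔ ∀ g ∈ Q, τ g *ᵥ v = v := Iff.rfl

/-- the action of a subgroup on an invariant subspace -/
@[reducible] def act (Q : Subgroup H) (W : Submodule F (ι → F)) (hW : ∀ g ∈ Q, ∀ v ∈ W, τ g *ᵥ v ∈ W) : MulAction Q W where
  smul g v := ⟨τ g *ᵥ v, hW g g.2 v v.2⟩
  one_smul v := Subtype.ext (by
    show τ ((1 : Q) : H) *ᵥ (v : ι → F) = v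
    rw [Subgroup.coe_one, map_one, one_mulVec])
  mul_smul a b v := Subtype.ext (by
    show τ ((a * b : Q) : H) *ᵥ (v : ι → F) = τ a *ᵥ (τ b *ᵥ v)
    rw [Subgroup.coe_mul, map_mul, mulVec_mulVec])

theorem card_modEq {r : ℕ} [Fact r.Prime] {Q : Subgroup H} (hQ : IsPGroup r Q) {W : Submodule F (ι → F)}
    (hW : ∀ g ∈ Q, ∀ v ∈ W, τ g *ᵥ v ∈ W) :
    Nat.card W ≡ Nat.card (W ⊓ fix τ Q : Submodule F (ι → F)) [MOD r] := by
  let := act τ Q W hW
  have h1 := hQ.card_modEq_card_fixedPoints (α := W)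
  refine h1.trans ?_
  have e : MulAction.fixedPoints Q W ≃ (W ⊓ fix τ Q : Submodule F (ι → F)) :=
    { toFun := fun v => ⟨v.1, v.1.2, fun g hg => congrArg Subtype.val (v.2 ⟨g, hg⟩)⟩
      invFun := fun v => ⟨⟨v.1, v.2.1⟩, fun g => Subtype.ext (v.2.2 g g.2)⟩
      left_inv := fun v => rfl
      right_inv := fun v => rfl }
  rw [Nat.card_congr e]

theorem card_sub (W : Submodule F (ι → F)) : Nat.card W = Nat.card F ^ finrank F W := by
  exact Module.natCard_eq_pow_finrank

include hp in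
theorem card_F : ∃ f : ℕ, 0 < f ∧ Nat.card F = p ^ f := by
  have := Fintype.ofFinite F
  obtain ⟨n, -, hn⟩ := FiniteField.card F p
  exact ⟨n, n.2, by rw [Nat.card_eq_fintype_card]; exact hn⟩

theorem exists_fixed {Q : Subgroup H} (hQ : IsPGroup p Q) {W : Submodule F (ι → F)} (hW0 : W ≠ ⊥)
    (hW : ∀ g ∈ Q, ∀ v ∈ W, τ g *ᵥ v ∈ W) : W ⊓ fix τ Q ≠ ⊥ := by
  intro h1
  have h2 := card_modEq τ hQ hW
  rw [h1, card_sub, card_sub, finrank_bot, pow_zero] at h2
  have h3 : finrank F W ≠ 0 := fun h3 => hW0 (Submodule.finrank_eq_zero.1 h3)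
  obtain ⟨f, hf, hF⟩ := card_F (p := p) (F := F)
  have h4 : p ∣ Nat.card F ^ finrank F W := by
    rw [hF]
    exact dvd_pow (dvd_pow_self p hf.ne') h3
  have h5 : (1 : ℕ) ≡ 0 [MOD p] := h2.symm.trans ((Nat.modEq_zero_iff_dvd).2 h4)
  exact hp.out.one_lt.ne' (Nat.dvd_one.1 ((Nat.modEq_zero_iff_dvd).1 h5))

theorem fix_ne_top (hτ : Function.Injective τ) {Q : Subgroup H} (hQ : Q ≠ ⊥) : fix τ Q ≠ ⊤ := by
  intro h1
  apply hQ
  rw [Subgroup.eq_bot_iff_forall]
  intro g hg
  apply hτ
  rw [map_one]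
  refine Matrix.mulVec_injective ?_
  funext v
  rw [one_mulVec]
  have : v ∈ fix τ Q := by rw [h1]; trivial
  exact this g hg

theorem fix_inv {Q : Subgroup H} {g : H} (hg : g ∈ Subgroup.normalizer (Q : Set H)) {v : ι → F}
    (hv : v ∈ fix τ Q) : τ g *ᵥ v ∈ fix τ Q := by
  intro x hx
  have h1 : g⁻¹ * x * g ∈ Q := by
    have := (Subgroup.mem_normalizer_iff.1 (inv_mem hg) x).1 hx
    rwa [inv_inv] at this
  have h2 := hv _ h1
  rw [mulVec_mulVec, ← map_mul]
  have h3 : x * g = g * (g⁻¹ * x * g) := by group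
  rw [h3, map_mul, ← mulVec_mulVec, h2]

/-- **chains of invariant subspaces and primitive primes** -/
theorem false_of_chain (hτ : Function.Injective τ) {u : ℕ} (hu : u.Prime) (hup : u ≠ p) {x : H} (hx : orderOf x = u)
    {R S : Submodule F (ι → F)} (hRS : R ≤ S) (hR : ∀ v ∈ R, τ x *ᵥ v ∈ R) (hS : ∀ v ∈ S, τ x *ᵥ v ∈ S) {d : ℕ}
    (hd : ∀ i, 1 ≤ i → i < d → ¬ u ∣ Nat.card F ^ i - 1) (h1 : finrank F R < d) (h2 : finrank F S < finrank F R + d)
    (h3 : Fintype.card ι < finrank F S + d) : False := by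
  have := Fact.mk hu
  set Q := Subgroup.zpowers x with hQ
  have hQu : IsPGroup u Q := by
    refine IsPGroup.of_card (n := 1) ?_
    rw [Nat.card_zpowers, hx, pow_one]
  set D : Submodule F (ι → F) := LinearMap.range (Matrix.toLin' (τ x) - LinearMap.id) with hD
  have mD : ∀ v, v ∈ D ↔ ∃ w, τ x *ᵥ w - w = v := by
    intro v
    rw [hD, LinearMap.mem_range]
    simp [Matrix.toLin'_apply]
  have invQ : ∀ {W : Submodule F (ι → F)}, (∀ v ∈ W, τ x *ᵥ v ∈ W) → ∀ g ∈ Q, ∀ v ∈ W, τ g *ᵥ v ∈ W := by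
    intro W hW g hg v hv
    obtain ⟨k, rfl⟩ : ∃ k : ℕ, x ^ k = g := by
      rw [hQ, ← mem_powers_iff_mem_zpowers] at hg
      exact hg
    induction k with
    | zero => rw [pow_zero, map_one, one_mulVec]; exact hv
    | succ k ih =>
      rw [pow_succ', map_mul, ← mulVec_mulVec]
      exact hW _ (ih (Subgroup.npow_mem_zpowers x k))
  have hDx : ∀ v ∈ D, τ x *ᵥ v ∈ D := by
    intro v hv
    obtain ⟨w, rfl⟩ := (mD v).1 hv
    exact (mD _).2 ⟨τ x *ᵥ w, by rw [mulVec_sub]⟩
  -- no fixed vectors in `D`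
  have hu0 : (u : F) ≠ 0 := by
    intro h0
    rw [CharP.cast_eq_zero_iff F p] at h0
    exact hup ((Nat.prime_dvd_prime_iff_eq hp.out hu).1 h0).symm
  have hDfix : D ⊓ fix τ Q = ⊥ := by
    rw [eq_bot_iff]
    rintro v ⟨hvD, hvf⟩
    obtain ⟨w, rfl⟩ := (mD v).1 hvD
    rw [Submodule.mem_bot]
    have hf : τ x *ᵥ (τ x *ᵥ w - w) = τ x *ᵥ w - w := hvf x (Subgroup.mem_zpowers x)
    have h4 : ∀ k : ℕ, τ (x ^ k) *ᵥ w = w + (k : F) • (τ x *ᵥ w - w) := by
      intro k
      induction k with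
      | zero => rw [pow_zero, map_one, one_mulVec, Nat.cast_zero, zero_smul, add_zero]
      | succ k ih =>
        rw [pow_succ', map_mul, ← mulVec_mulVec, ih, mulVec_add, mulVec_smul, hf, Nat.cast_succ, add_smul, one_smul]
        abel
    have h5 := h4 u
    rw [← hx, pow_orderOf_eq_one, map_one, one_mulVec, hx] at h5
    have h6 : (u : F) • (τ x *ᵥ w - w) = 0 := by
      have := h5.symm
      rwa [add_eq_left] at this
    exact (smul_eq_zero.1 h6).resolve_left hu0
  -- invariant subspaces of `D` of dimension less than `d` are trivial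
  have key : ∀ W : Submodule F (ι → F), W ≤ D → (∀ v ∈ W, τ x *ᵥ v ∈ W) → finrank F W < d → W = ⊥ := by
    intro W hWD hW hWd
    by_contra hne
    have h4 := card_modEq τ hQu (invQ hW)
    have h5 : W ⊓ fix τ Q = ⊥ := by
      rw [eq_bot_iff, ← hDfix]
      exact inf_le_inf_right _ hWD
    rw [h5, card_sub, card_sub, finrank_bot, pow_zero] at h4
    have h6 : finrank F W ≠ 0 := fun h6 => hne (Submodule.finrank_eq_zero.1 h6)
    refine hd _ (Nat.one_le_iff_ne_zero.2 h6) hWd ?_
    exact (Nat.modEq_iff_dvd' (Nat.one_le_pow _ _ Nat.card_pos)).1 h4.symm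
  have k1 : D ⊓ R = ⊥ := by
    refine key _ inf_le_left (fun v hv => ⟨hDx v hv.1, hR v hv.2⟩) (lt_of_le_of_lt ?_ h1)
    exact Submodule.finrank_mono inf_le_right
  have k2 : D ⊓ S = ⊥ := by
    refine key _ inf_le_left (fun v hv => ⟨hDx v hv.1, hS v hv.2⟩) ?_
    have h4 := Submodule.finrank_sup_add_finrank_inf_eq (D ⊓ S) R
    have h5 : (D ⊓ S) ⊓ R = ⊥ := by
      rw [eq_bot_iff, ← k1]
      exact inf_le_inf_right _ inf_le_left
    rw [h5, finrank_bot, add_zero] at h4
    have h6 : finrank F ((D ⊓ S) ⊔ R : Submodule F (ι → F)) ≤ finrank F S :=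
      Submodule.finrank_mono (sup_le inf_le_right hRS)
    omega
  have k3 : D = ⊥ := by
    refine key _ le_rfl hDx ?_
    have h4 := Submodule.finrank_sup_add_finrank_inf_eq D S
    rw [k2, finrank_bot, add_zero] at h4
    have h6 : finrank F (D ⊔ S : Submodule F (ι → F)) ≤ Fintype.card ι := by
      have := Submodule.finrank_le (D ⊔ S)
      rwa [finrank_fintype_fun_eq_card] at this
    omega
  have h4 : x = 1 := by
    apply hτ
    rw [map_one]
    refine Matrix.mulVec_injective ?_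
    funext v
    rw [one_mulVec]
    have : τ x *ᵥ v - v ∈ D := (mD _).2 ⟨v, rfl⟩
    rw [k3, Submodule.mem_bot] at this
    exact sub_eq_zero.1 this
  rw [h4, orderOf_one] at hx
  exact hu.one_lt.ne hx

/-- **linear groups** -/
theorem der_lin [Nonempty ι] (hτ : Function.Injective τ) (hPar : Par p (H ⧸ Subgroup.center H)) {u : ℕ} (hu : u.Prime) (hup : u ≠ p)
    (hd : ∀ i, 1 ≤ i → i < Fintype.card ι → ¬ u ∣ Nat.card F ^ i - 1)
    (hdvd : u ∣ Nat.card (H ⧸ Subgroup.center H)) (M : Subgroup (H ⧸ Subgroup.center H)) (hM : M ≠ ⊤)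
    (hidx : ¬ p ^ 2 ∣ M.index) : Der (H ⧸ Subgroup.center H) M := by
  obtain ⟨P, hMP, hP, -, V, hV, hVp, -, hPV⟩ := hPar M hM hidx
  refine Der.mono (der_of_prime hu hdvd fun hcon => ?_) hMP
  obtain ⟨x, hx, hxP⟩ := exists_order hu hcon
  obtain ⟨Q, hQ, hQp, hQn, -⟩ := exists_pgroup hV hVp hPV
  have hne : fix τ Q ≠ ⊥ := by
    have := exists_fixed τ hQp (W := ⊤) top_ne_bot fun _ _ _ _ => Submodule.mem_top
    rwa [top_inf_eq] at this
  have htop := fix_ne_top τ hτ hQ
  have hinv : ∀ v ∈ fix τ Q, τ x *ᵥ v ∈ fix τ Q := fun v hv => fix_inv τ (hQn hxP) hv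
  have h1 : finrank F (fix τ Q) < Fintype.card ι := by
    have := Submodule.finrank_lt (lt_top_iff_ne_top.2 htop).ne
    rwa [finrank_fintype_fun_eq_card] at this
  have h2 : 0 < finrank F (fix τ Q) := Nat.pos_of_ne_zero fun h2 => hne (Submodule.finrank_eq_zero.1 h2)
  exact false_of_chain τ hτ hu hup hx le_rfl hinv hinv hd h1 (by omega) (by omega)

/-! ### forms -/

/-- a nondegenerate reflexive sesquilinear form -/
structure Frm (f : (ι → F) → (ι → F) → F) (σ : F ≃+* F) : Prop where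
  add : ∀ u v w, f (u + v) w = f u w + f v w
  smul : ∀ (a : F) u w, f (a • u) w = a * f u w
  add' : ∀ u v w, f u (v + w) = f u v + f u w
  smul' : ∀ (a : F) u w, f u (a • w) = σ a * f u w
  refl : ∀ u v, f u v = 0 → f v u = 0
  nondeg : ∀ v, (∀ u, f u v = 0) → v = 0

variable {f : (ι → F) → (ι → F) → F} {σ : F ≃+* F}

/-- the orthogonal space -/
def perp (hf : Frm f σ) (W : Submodule F (ι → F)) : Submodule F (ι → F) where
  carrier := {v | ∀ w ∈ W, f v w = 0}
  add_mem' := by
    intro a b ha hb w hw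
    rw [hf.add, ha w hw, hb w hw, add_zero]
  zero_mem' := by
    intro w _
    have := hf.smul 0 w w
    rwa [zero_smul, zero_mul] at this
  smul_mem' := by
    intro c a ha w hw
    rw [hf.smul, ha w hw, mul_zero]

theorem Frm.zero_right (hf : Frm f σ) (u : ι → F) : f u 0 = 0 := by
  have := hf.smul' 0 u 0
  rwa [zero_smul, map_zero, zero_mul] at this

theorem finrank_perp (hf : Frm f σ) (W : Submodule F (ι → F)) :
    finrank F (perp hf W) + finrank F W = Fintype.card ι := by
  classical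
  set b := finBasis F W with hb
  let φ : (ι → F) →ₗ[F] (Fin (finrank F W) → F) :=
    { toFun := fun v i => f v (b i)
      map_add' := fun u v => funext fun i => hf.add u v _
      map_smul' := fun a v => funext fun i => hf.smul a v _ }
  have hker : LinearMap.ker φ = perp hf W := by
    ext v
    rw [LinearMap.mem_ker]
    constructor
    · intro h1 w hw
      have h2 : ∀ i, f v (b i) = 0 := fun i => congrFun h1 i
      have h3 : ((⟨w, hw⟩ : W) : ι → F) = ∑ i, b.repr ⟨w, hw⟩ i • ((b i : W) : ι → F) := by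
        conv_lhs => rw [← b.sum_repr ⟨w, hw⟩]
        rw [Submodule.coe_sum]
        rfl
      have h4 : ∀ s : Finset (Fin (finrank F W)), f v (∑ i ∈ s, b.repr ⟨w, hw⟩ i • ((b i : W) : ι → F)) = 0 := by
        intro s
        induction s using Finset.induction_on with
        | empty => rw [Finset.sum_empty]; exact hf.zero_right v
        | insert a s ha ih => rw [Finset.sum_insert ha, hf.add', ih, hf.smul', h2, mul_zero, add_zero]
      have h5 : f v ((⟨w, hw⟩ : W) : ι → F) = 0 := by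
        rw [h3]
        exact h4 _
      exact h5
    · intro h1
      funext i
      exact h1 _ (b i).2
  have hsurj : LinearMap.range φ = ⊤ := by
    by_contra hne
    obtain ⟨c, hc, hc2⟩ := Submodule.exists_le_ker_of_lt_top _ (lt_top_iff_ne_top.2 hne)
    -- `c` as a vector
    have h1 : ∀ v, ∑ i, f v (b i) * c (Pi.single i 1) = 0 := by
      intro v
      have h2 : c (φ v) = 0 := by
        have := hc2 (LinearMap.mem_range_self φ v)
        rwa [LinearMap.mem_ker] at this
      have h3 : φ v = ∑ i, φ v i • (Pi.single i (1 : F) : Fin (finrank F W) → F) := by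
        ext j
        simp [Finset.sum_apply, Pi.single_apply]
      rw [h3, map_sum] at h2
      simp only [map_smul, smul_eq_mul] at h2
      exact h2
    set w : W := ∑ i, σ.symm (c (Pi.single i 1)) • b i with hw
    have h2 : ∀ v, f v w = 0 := by
      intro v
      have h4 : ∀ s : Finset (Fin (finrank F W)),
          f v ((∑ i ∈ s, σ.symm (c (Pi.single i 1)) • b i : W) : ι → F) = ∑ i ∈ s, f v (b i) * c (Pi.single i 1) := by
        intro s
        induction s using Finset.induction_on with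
        | empty => rw [Finset.sum_empty, Finset.sum_empty]; exact hf.zero_right v
        | insert a s ha ih =>
          rw [Finset.sum_insert ha, Finset.sum_insert ha, Submodule.coe_add, hf.add', ih, Submodule.coe_smul, hf.smul',
            RingEquiv.apply_symm_apply, mul_comm]
      rw [hw, h4, h1]
    have h3 : (w : ι → F) = 0 := hf.nondeg _ h2
    have h4 : w = 0 := Subtype.ext h3
    apply hc
    have h5 : ∀ i, c (Pi.single i 1) = 0 := by
      intro i
      have h6 := congrArg (fun y => b.repr y i) h4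
      simp only [hw, map_sum, map_smul, Basis.repr_self, map_zero, Finsupp.coe_zero, Pi.zero_apply] at h6
      rw [Finsupp.finsetSum_apply] at h6
      simp [Finsupp.single_apply] at h6
      exact h6
    refine LinearMap.pi_ext' fun i => ?_
    ext
    simp [h5]
  have h1 := LinearMap.finrank_range_add_finrank_ker φ
  rw [hsurj, hker, finrank_top, finrank_fintype_fun_eq_card, finrank_fintype_fun_eq_card, Fintype.card_fin] at h1
  omega

theorem exists_isotropic [Nonempty ι] (hτ : Function.Injective τ) (hf : Frm f σ)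
    (hfH : ∀ g u v, f (τ g *ᵥ u) (τ g *ᵥ v) = f u v) {Q : Subgroup H} (hQ : Q ≠ ⊥) (hQp : IsPGroup p Q) :
    ∃ R : Submodule F (ι → F), R ≠ ⊥ ∧ R ≤ perp hf R ∧ R ≤ fix τ Q ∧
      (∀ g ∈ Subgroup.normalizer (Q : Set H), ∀ v ∈ R, τ g *ᵥ v ∈ R) ∧
      (∀ g ∈ Subgroup.normalizer (Q : Set H), ∀ v ∈ perp hf R, τ g *ᵥ v ∈ perp hf R) := by
  have pinv : ∀ (W : Submodule F (ι → F)) (g : H), (∀ v ∈ W, τ g⁻¹ *ᵥ v ∈ W) → ∀ v ∈ perp hf W, τ g *ᵥ v ∈ perp hf W := by
    intro W g hg v hv w hw
    have h1 : τ g *ᵥ (τ g⁻¹ *ᵥ w) = w := by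
      rw [mulVec_mulVec, ← map_mul, mul_inv_cancel, map_one, one_mulVec]
    rw [← h1, hfH]
    exact hv _ (hg w hw)
  have hfi : ∀ g ∈ Subgroup.normalizer (Q : Set H), ∀ v ∈ fix τ Q, τ g *ᵥ v ∈ fix τ Q :=
    fun g hg v hv => fix_inv τ hg hv
  have hpi : ∀ g ∈ Subgroup.normalizer (Q : Set H), ∀ v ∈ perp hf (fix τ Q), τ g *ᵥ v ∈ perp hf (fix τ Q) :=
    fun g hg v hv => pinv _ g (hfi g⁻¹ (inv_mem hg)) v hv
  have hne : perp hf (fix τ Q) ≠ ⊥ := by
    intro h1
    have h2 := finrank_perp hf (fix τ Q)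
    rw [h1, finrank_bot, zero_add] at h2
    refine fix_ne_top τ hτ hQ (Submodule.eq_top_of_finrank_eq ?_)
    rw [h2, finrank_fintype_fun_eq_card]
  have hR := exists_fixed τ hQp hne (fun g hg v hv => hpi g (Subgroup.le_normalizer hg) v hv)
  refine ⟨perp hf (fix τ Q) ⊓ fix τ Q, hR, ?_, inf_le_right, ?_, ?_⟩
  · intro v hv w hw
    exact hv.1 w hw.2
  · intro g hg v hv
    exact ⟨hpi g hg v hv.1, hfi g hg v hv.2⟩
  · intro g hg v hv
    refine pinv (perp hf (fix τ Q) ⊓ fix τ Q) g (fun w hw => ?_) v hv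
    exact ⟨hpi g⁻¹ (inv_mem hg) w hw.1, hfi g⁻¹ (inv_mem hg) w hw.2⟩

/-- **groups with a form** -/
theorem der_frm (hι : 3 ≤ Fintype.card ι) (hτ : Function.Injective τ) (hf : Frm f σ)
    (hfH : ∀ g u v, f (τ g *ᵥ u) (τ g *ᵥ v) = f u v)
    (hPar : Par p (H ⧸ Subgroup.center H)) {u : ℕ} (hu : u.Prime) (hup : u ≠ p)
    (hd : ∀ i, 1 ≤ i → i + 1 < Fintype.card ι → ¬ u ∣ Nat.card F ^ i - 1)
    (hdvd : u ∣ Nat.card (H ⧸ Subgroup.center H)) (M : Subgroup (H ⧸ Subgroup.center H)) (hM : M ≠ ⊤)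
    (hidx : ¬ p ^ 2 ∣ M.index) : Der (H ⧸ Subgroup.center H) M := by
  have : Nonempty ι := Fintype.card_pos_iff.1 (by omega)
  obtain ⟨P, hMP, hP, -, V, hV, hVp, -, hPV⟩ := hPar M hM hidx
  refine Der.mono (der_of_prime hu hdvd fun hcon => ?_) hMP
  obtain ⟨x, hx, hxP⟩ := exists_order hu hcon
  obtain ⟨Q, hQ, hQp, hQn, -⟩ := exists_pgroup hV hVp hPV
  obtain ⟨R, hR, hRp, -, hRx, hRx'⟩ := exists_isotropic τ hτ hf hfH hQ hQp
  have h1 := finrank_perp hf R
  have h2 : 0 < finrank F R := Nat.pos_of_ne_zero fun h2 => hR (Submodule.finrank_eq_zero.1 h2)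
  have h3 := Submodule.finrank_mono hRp
  exact false_of_chain τ hτ hu hup hx hRp (hRx x (hQn hxP)) (hRx' x (hQn hxP)) (d := Fintype.card ι - 1)
    (fun i h4 h5 => hd i h4 (by omega)) (by omega) (by omega) (by omega)

end Lin

end Cfsg.Agent.H396.Cl
end

-- part: H304/PpdClass
section
set_option linter.all false
open scoped Cfsg.Agent.FastGrp

/-!
# Elements of primitive prime order in the members of Aschbacher's classes 1 and 8 (helper304, TEAM ELUSIVE)
-/

set_option autoImplicit false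
set_option linter.style.haveILetI false

namespace Cfsg.Agent.H304.Ppd

open Matrix Cfsg Cfsg.Geo Cfsg.Agent.H728.DghpNum

variable {ι : Type} [Fintype ι] [DecidableEq ι] {F : Type*} [Field F] [Fintype F]

/-- class 1 -/
theorem le_finrank_of_mem_stabilizer {u e : ℕ} (hP : Ppd (Fintype.card F) e u) {x : GL ι F} (hx : orderOf x = u)
    {W : Submodule F (ι → F)} (hxW : ∀ w ∈ W, (x : Matrix ι ι F) *ᵥ w ∈ W) :
    e ≤ Module.finrank F W ∨ Module.finrank F W + e ≤ Fintype.card ι := by
  obtain ⟨p, hp⟩ := CharP.exists F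
  haveI : Fact p.Prime := ⟨CharP.char_is_prime F p⟩
  by_contra hcon
  push Not at hcon
  have hup : u ≠ p := by
    rintro rfl
    obtain ⟨k, -, hk⟩ := FiniteField.card F u
    apply hP.ndvd
    rw [hk]
    exact dvd_pow_self u k.ne_zero
  refine Cfsg.Agent.H396.Cl.false_of_chain (p := p) (H := GL ι F) (F := F) (ι := ι) (Units.coeHom (Matrix ι ι F)) Units.val_injective
    hP.prime hup hx (R := W) (S := W) le_rfl hxW hxW (d := e) ?_ hcon.1 ?_ hcon.2
  · intro i h1 h2 h3
    rw [Nat.card_eq_fintype_card, hP.dvd_iff] at h3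
    exact absurd (Nat.le_of_dvd h1 h3) (by omega)
  · have := hP.pos
    omega

omit [Fintype F] in
theorem mem_of_subspaceStabilizer {W : Submodule F (ι → F)} {x : GL ι F} (hx : x ∈ subspaceStabilizer W) :
    ∀ w ∈ W, (x : Matrix ι ι F) *ᵥ w ∈ W := by
  intro w hw
  exact (hx w).mp hw

/-- the multiplier of an element of primitive prime order is trivial -/
theorem multiplier_eq_one {u e : ℕ} (hP : Ppd (Fintype.card F) e u) (he : 2 ≤ e) {x : GL ι F} (hx : orderOf x = u)
    {f : (ι → F) → (ι → F) → F} (hne : ∃ a b, f a b ≠ 0) {c : Fˣ}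
    (h : ∀ a b, f ((x : Matrix ι ι F) *ᵥ a) ((x : Matrix ι ι F) *ᵥ b) = (c : F) * f a b) : c = 1 := by
  have h1 : ∀ k : ℕ, ∀ a b, f (((x ^ k : GL ι F) : Matrix ι ι F) *ᵥ a) (((x ^ k : GL ι F) : Matrix ι ι F) *ᵥ b) =
      ((c ^ k : Fˣ) : F) * f a b := by
    intro k
    induction k with
    | zero => intro a b; simp
    | succ k ih =>
      intro a b
      rw [pow_succ', Units.val_mul, ← Matrix.mulVec_mulVec, ← Matrix.mulVec_mulVec, h, ih, pow_succ', Units.val_mul,
        mul_assoc]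
  obtain ⟨a, b, hab⟩ := hne
  have h2 := h1 u a b
  rw [← hx, pow_orderOf_eq_one, hx, Units.val_one, Matrix.one_mulVec, Matrix.one_mulVec] at h2
  have h3 : ((c ^ u : Fˣ) : F) = 1 := by
    have : (((c ^ u : Fˣ) : F) - 1) * f a b = 0 := by rw [sub_mul, one_mul, ← h2, sub_self]
    exact sub_eq_zero.mp ((mul_eq_zero.mp this).resolve_right hab)
  have h4 : c ^ u = 1 := Units.ext h3
  have h5 : orderOf c ∣ u := orderOf_dvd_of_pow_eq_one h4
  have h6 : orderOf c ∣ Fintype.card F - 1 := by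
    have := _root_.orderOf_dvd_natCard c
    rwa [Nat.card_units, Nat.card_eq_fintype_card] at this
  rcases (Nat.dvd_prime hP.prime).mp h5 with h7 | h7
  · exact orderOf_eq_one_iff.mp h7
  · exfalso
    rw [h7] at h6
    have := (hP.dvd_iff 1).mp (by rwa [pow_one])
    exact absurd (Nat.le_of_dvd one_pos this) (by omega)

omit [Fintype ι] [DecidableEq ι] [Fintype F] in
theorem exists_ne_zero [Nonempty ι] {f : (ι → F) → (ι → F) → F} (hf : IsNondegenerateForm f) :
    ∃ a b, f a b ≠ 0 := by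
  obtain ⟨v, hv⟩ : ∃ v : ι → F, v ≠ 0 := exists_ne 0
  obtain ⟨⟨a, ha⟩, -⟩ := hf v hv
  exact ⟨a, v, ha⟩

/-- class 8, bilinear forms -/
theorem even_of_bilinear [Nonempty ι] {u e : ℕ} (hP : Ppd (Fintype.card F) e u) (he : 2 ≤ e)
    (hn : Fintype.card ι < 2 * e) {x : GL ι F} (hx : orderOf x = u) {f : (ι → F) → (ι → F) → F}
    (hf : IsBilinearForm f) (hfn : IsNondegenerateForm f) (hxf : x ∈ similarityGroup f) : Even e := by
  obtain ⟨c, hc⟩ := hxf
  have hc1 := multiplier_eq_one hP he hx (exists_ne_zero hfn) hc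
  have hs := H914.IsSesq.of_bilinear hf
  have h1 := H914.fixes_gram hs (M := (x : Matrix ι ι F)) (fun a b => by rw [hc, hc1, Units.val_one, one_mul])
  refine even_of_gram hP.prime ?_ hP.ord hP.ndvd hn hx (H914.det_gram_ne_zero hs hfn) (G := gramMatrix f) ?_
  · have := hP.lt
    omega
  · simpa using h1

/-- class 8, quadratic forms -/
theorem even_of_quadratic [Nonempty ι] {u e : ℕ} (hP : Ppd (Fintype.card F) e u) (he : 2 ≤ e)
    (hn : Fintype.card ι < 2 * e) {x : GL ι F} (hx : orderOf x = u) {Q : (ι → F) → F}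
    (hQ : IsNondegenerateQuadraticForm Q) (hxQ : x ∈ quadSimilarityGroup Q) : Even e := by
  refine even_of_bilinear hP he hn hx hQ.polar_bilinear hQ.nondegenerate ?_
  obtain ⟨c, hc⟩ := hxQ
  refine ⟨c, fun a b => ?_⟩
  rw [QuadraticMap.polar, QuadraticMap.polar, ← Matrix.mulVec_add, hc, hc, hc]
  ring

/-- an involutory automorphism of a finite field -/
theorem exists_frobenius {σ : F ≃+* F} (hne : σ ≠ RingEquiv.refl F) (hinv : ∀ a, σ (σ a) = a) :
    ∃ p k : ℕ, p.Prime ∧ CharP F p ∧ Fintype.card F = (p ^ k) ^ 2 ∧ ∀ a, σ a = a ^ p ^ k := by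
  obtain ⟨p, hp⟩ := CharP.exists F
  haveI : Fact p.Prime := ⟨CharP.char_is_prime F p⟩
  letI : Algebra (ZMod p) F := ZMod.algebra F p
  let s : F →ₐ[ZMod p] F := { σ.toRingHom with
    commutes' := fun r => by
      show σ (algebraMap (ZMod p) F r) = algebraMap (ZMod p) F r
      have : (σ.toRingHom.comp (algebraMap (ZMod p) F)) = algebraMap (ZMod p) F := Subsingleton.elim _ _
      exact RingHom.congr_fun this r }
  obtain ⟨k, hk⟩ := (FiniteField.bijective_frobeniusAlgHom_pow (ZMod p) F).2 s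
  have hk' : ∀ a, σ a = a ^ p ^ (k : ℕ) := by
    intro a
    have h1 := DFunLike.congr_fun hk a
    simp only at h1
    rw [AlgHom.coe_pow, FiniteField.coe_frobeniusAlgHom, pow_iterate, ZMod.card] at h1
    exact h1.symm
  have hcard : Fintype.card F = p ^ Module.finrank (ZMod p) F := by
    have := Module.card_eq_pow_finrank (K := ZMod p) (V := F)
    rwa [ZMod.card] at this
  have hsq : ∀ a : F, a ^ p ^ (2 * (k : ℕ)) = a := by
    intro a
    have h1 := hinv a
    rw [hk', hk', ← pow_mul, ← pow_add] at h1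
    rw [two_mul]
    exact h1
  refine ⟨p, k, Fact.out, hp, ?_, hk'⟩
  have h1 : (FiniteField.frobeniusAlgHom (ZMod p) F) ^ (2 * (k : ℕ)) = 1 := by
    apply AlgHom.ext
    intro a
    rw [AlgHom.coe_pow, FiniteField.coe_frobeniusAlgHom, pow_iterate, ZMod.card]
    exact hsq a
  have h2 : Module.finrank (ZMod p) F ∣ 2 * (k : ℕ) := by
    have := orderOf_dvd_of_pow_eq_one h1
    rwa [FiniteField.orderOf_frobeniusAlgHom (ZMod p) F] at this
  have h3 : (k : ℕ) < Module.finrank (ZMod p) F := k.2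
  have h4 : (k : ℕ) ≠ 0 := by
    intro h0
    apply hne
    ext a
    rw [hk', h0]
    simp
  have h5 : 2 * (k : ℕ) = Module.finrank (ZMod p) F := by
    obtain ⟨m, hm⟩ := h2
    have h6 : 0 < m := by
      rcases Nat.eq_zero_or_pos m with h0 | h0
      · rw [h0] at hm; omega
      · exact h0
    have h7 : m < 2 := by
      by_contra h8
      push Not at h8
      have : Module.finrank (ZMod p) F * 2 ≤ 2 * (k : ℕ) := by
        rw [hm]; exact Nat.mul_le_mul_left _ h8
      omega
    have h8 : m = 1 := by omega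
    rw [h8, mul_one] at hm
    exact hm
  have h9 : p ^ Module.finrank (ZMod p) F = p ^ ((k : ℕ) * 2) := by
    rw [mul_comm]; exact (congrArg (p ^ ·) h5).symm
  rw [hcard, h9, pow_mul]

/-- class 8, unitary forms -/
theorem odd_of_unitary [Nonempty ι] {u e p k : ℕ} [Fact p.Prime] [CharP F p] (hF : Fintype.card F = (p ^ k) ^ 2)
    (hP : Ppd (p ^ k) (2 * e) u) (he : 2 ≤ e)
    (hn : Fintype.card ι < 2 * e) {x : GL ι F} (hx : orderOf x = u) {σ : F ≃+* F} (hσ : ∀ a, σ a = a ^ p ^ k)
    {f : (ι → F) → (ι → F) → F} (hf : IsUnitaryForm σ f) (hxf : x ∈ similarityGroup f) : Odd e := by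
  have hPq : Ppd (Fintype.card F) e u := by
    rw [hF]
    have := hP.pow 2 two_ne_zero
    rwa [Nat.gcd_comm, Nat.gcd_mul_right_right, Nat.mul_div_cancel_left _ (by norm_num)] at this
  obtain ⟨c, hc⟩ := hxf
  have hc1 := multiplier_eq_one hPq he hx (exists_ne_zero hf.nondegenerate) hc
  have hs := H914.IsSesq.of_unitary hf
  have h1 := H914.fixes_gram hs (M := (x : Matrix ι ι F)) (fun a b => by rw [hc, hc1, Units.val_one, one_mul])
  have h2 : (x : Matrix ι ι F).map σ = (x : Matrix ι ι F).map (fun a => a ^ p ^ k) := by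
    ext i j
    exact hσ _
  rw [h2] at h1
  exact odd_of_gram hF hP.prime hP.ord (by omega) hPq.ndvd hn hx (H914.det_gram_ne_zero hs hf.nondegenerate) h1

end Cfsg.Agent.H304.Ppd
end
end
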