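import Cfsg.Agent.S0243
import Cfsg.Agent.H304.PpdForm
import Cfsg.Agent.H304.PpdClass
import Cfsg.Prelude.Def_GeometricClasses
import Cfsg.Agent.H900.SU4.Base
import Cfsg.Agent.H954.FieldSub
import Cfsg.Agent.H915.SLCases
import Cfsg.Agent.H251.GeoCardC
import Cfsg.Agent.SuzukiRankOne.Translation
import Cfsg.Agent.H278.ElDefs
import Cfsg.Agent.Prune
set_option linter.all false

section
prune_inst 0x7f00000000000000000000000000000000000000000000000000000000000000000000000000000000000000000000000000000000000000000000000000000000000000000000000000000000000000003fffffffffffffffffffffffffffbeffbdffffffff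

-- part: H304/PslTransfer
section
set_option linter.all false
open scoped Cfsg.Agent.FastGrp

/-!
# From maximal subgroups of `PSL_n(F)` to maximal subgroups of `SL_n(F) ≤ GL_n(F)` (helper304, TEAM ELUSIVE)
-/

set_option autoImplicit false
set_option linter.style.haveILetI false

namespace Cfsg.Agent.H304.PslT

open Matrix Cfsg Cfsg.Geo Cfsg.Agent.H728.DghpNum

variable {F : Type*} [Field F] {n : ℕ}

/-- the projection `SL_n(F) → PSL_n(F)` -/
abbrev pr (n : ℕ) (F : Type*) [Field F] : Matrix.SpecialLinearGroup (Fin n) F →* Matrix.ProjectiveSpecialLinearGroup (Fin n) F :=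
  QuotientGroup.mk' (Subgroup.center (Matrix.SpecialLinearGroup (Fin n) F))

/-- the preimage in `GL_n(F)` of a subgroup of `PSL_n(F)` -/
def pre (M : Subgroup (Matrix.ProjectiveSpecialLinearGroup (Fin n) F)) : Subgroup (GL (Fin n) F) :=
  (M.comap (pr n F)).map (Matrix.SpecialLinearGroup.toGL)

theorem toGL_injective : Function.Injective (Matrix.SpecialLinearGroup.toGL (n := Fin n) (R := F)) := by
  intro a b h
  apply Subtype.ext
  exact congrArg Units.val h

theorem range_toGL : (Matrix.SpecialLinearGroup.toGL (n := Fin n) (R := F)).range = specialLinear (Fin n) F := by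
  ext g
  constructor
  · rintro ⟨a, rfl⟩
    show Matrix.GeneralLinearGroup.det (Matrix.SpecialLinearGroup.toGL a) = 1
    ext
    exact a.2
  · intro hg
    have h1 : (g : Matrix (Fin n) (Fin n) F).det = 1 := congrArg Units.val (MonoidHom.mem_ker.mp hg)
    exact ⟨⟨g, h1⟩, Units.ext rfl⟩

theorem isMaximalIn_pre {M : Subgroup (Matrix.ProjectiveSpecialLinearGroup (Fin n) F)} (hM : IsCoatom M) :
    IsMaximalIn (specialLinear (Fin n) F) (pre M) := by
  have hsurj : Function.Surjective (pr n F) := QuotientGroup.mk'_surjective _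
  set M' := M.comap (pr n F) with hM'
  have hmap : M'.map (pr n F) = M := Subgroup.map_comap_eq_self_of_surjective hsurj M
  have hne : M' ≠ ⊤ := by
    intro h
    apply hM.1
    rw [← hmap, h]
    exact Subgroup.map_top_of_surjective _ hsurj
  have hker : (pr n F).ker ≤ M' := fun x hx => by
    rw [hM', Subgroup.mem_comap, MonoidHom.mem_ker.mp hx]
    exact one_mem _
  have hmax : ∀ L : Subgroup (Matrix.SpecialLinearGroup (Fin n) F), M' ≤ L → L = M' ∨ L = ⊤ := by
    intro L hL
    have h1 : M ≤ L.map (pr n F) := by rw [← hmap]; exact Subgroup.map_mono hL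
    have h2 : (L.map (pr n F)).comap (pr n F) = L :=
      Subgroup.comap_map_eq_self (hker.trans hL)
    rcases hM.le_iff.mp h1 with h3 | h3
    · right
      rw [← h2, h3, Subgroup.comap_top]
    · left
      rw [← h2, h3]
  rw [← range_toGL]
  refine ⟨?_, ?_⟩
  · refine lt_of_le_of_ne (Subgroup.map_le_range _ _) ?_
    intro h
    apply hne
    rw [pre, MonoidHom.range_eq_map] at h
    exact Subgroup.map_injective toGL_injective h
  · intro L hL hLr
    have h1 : (L.comap (Matrix.SpecialLinearGroup.toGL (n := Fin n) (R := F))).map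
        (Matrix.SpecialLinearGroup.toGL (n := Fin n) (R := F)) = L :=
      Subgroup.map_comap_eq_self hLr
    have h2 : M' ≤ L.comap (Matrix.SpecialLinearGroup.toGL (n := Fin n) (R := F)) := by
      rw [← Subgroup.map_le_iff_le_comap]; exact hL
    rcases hmax _ h2 with h3 | h3
    · left
      rw [← h1, h3]; rfl
    · right
      rw [← h1, h3, MonoidHom.range_eq_map]

theorem exists_of_dvd [Fintype F] {M : Subgroup (Matrix.ProjectiveSpecialLinearGroup (Fin n) F)} {u : ℕ} (hu : u.Prime)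
    (h : u ∣ Nat.card M) : ∃ x : GL (Fin n) F, orderOf x = u ∧ x ∈ pre M := by
  classical
  obtain ⟨x, hx, hxM⟩ := Cfsg.Agent.H396.Cl.exists_order (H := Matrix.SpecialLinearGroup (Fin n) F) hu h
  refine ⟨Matrix.SpecialLinearGroup.toGL x, ?_, ⟨x, hxM, rfl⟩⟩
  rw [← hx]
  exact orderOf_injective _ toGL_injective x

theorem mem_specialLinear_of_mem_pre {M : Subgroup (Matrix.ProjectiveSpecialLinearGroup (Fin n) F)}
    {x : GL (Fin n) F} (hx : x ∈ pre M) : x ∈ specialLinear (Fin n) F := by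
  rw [← range_toGL]
  exact Subgroup.map_le_range _ _ hx

/-- primitive primes divide the order of `PSL_n(q)` -/
theorem dvd_card [Fintype F] {e u : ℕ} (he : 2 ≤ e) (hen : e ≤ n) (hP : Ppd (Fintype.card F) e u) :
    u ∣ Nat.card (Matrix.ProjectiveSpecialLinearGroup (Fin n) F) := by
  have hq : 1 ≤ Fintype.card F := Fintype.card_pos
  have h := S0243.result (F := F) rfl n (by omega)
  have h1 : u ∣ ∏ i : Fin n, (Fintype.card F ^ n - Fintype.card F ^ (i : ℕ)) := by
    refine Dvd.dvd.trans ?_ (Finset.dvd_prod_of_mem _ (Finset.mem_univ (⟨n - e, by omega⟩ : Fin n)))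
    have h2 : Fintype.card F ^ n - Fintype.card F ^ (n - e) = Fintype.card F ^ (n - e) * (Fintype.card F ^ e - 1) := by
      rw [Nat.mul_sub, mul_one, ← pow_add]
      congr 2
      omega
    show u ∣ Fintype.card F ^ n - Fintype.card F ^ (n - e)
    rw [h2]
    exact ((hP.dvd_iff e).mpr dvd_rfl).mul_left _
  rw [← h] at h1
  have h3 : ¬ u ∣ Fintype.card F - 1 := by
    intro h3
    have := (hP.dvd_iff 1).mp (by rwa [pow_one])
    exact absurd (Nat.le_of_dvd one_pos this) (by omega)
  rcases hP.prime.dvd_mul.mp h1 with h4 | h4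
  · exact absurd (h4.trans (Nat.gcd_dvd_right _ _)) h3
  · rcases hP.prime.dvd_mul.mp h4 with h5 | h5
    · exact absurd h5 h3
    · exact h5

/-- primes dividing `q` or `q ^ 2 - 1`: the characteristic -/
theorem char_dvd_card [Fintype F] {p : ℕ} (hp : p.Prime) (hpF : p ∣ Fintype.card F) (hn : 2 ≤ n) :
    p ∣ Nat.card (Matrix.ProjectiveSpecialLinearGroup (Fin n) F) := by
  have hq : 1 ≤ Fintype.card F := Fintype.card_pos
  have h := S0243.result (F := F) rfl n hn
  have h1 : p ∣ ∏ i : Fin n, (Fintype.card F ^ n - Fintype.card F ^ (i : ℕ)) := by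
    refine Dvd.dvd.trans ?_ (Finset.dvd_prod_of_mem _ (Finset.mem_univ (⟨1, by omega⟩ : Fin n)))
    show p ∣ Fintype.card F ^ n - Fintype.card F ^ 1
    exact Nat.dvd_sub (dvd_pow hpF (by omega)) (dvd_pow hpF one_ne_zero)
  rw [← h] at h1
  have h3 : ¬ p ∣ Fintype.card F - 1 := by
    intro h3
    have h4 : p ∣ 1 := by
      have := Nat.dvd_sub hpF h3
      rwa [Nat.sub_sub_self hq] at this
    exact hp.one_lt.ne' (Nat.dvd_one.mp h4)
  rcases hp.dvd_mul.mp h1 with h4 | h4
  · exact absurd (h4.trans (Nat.gcd_dvd_right _ _)) h3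
  · rcases hp.dvd_mul.mp h4 with h5 | h5
    · exact absurd h5 h3
    · exact h5

/-- the order of `PSL_n(q)` is even -/
theorem even_card [Fintype F] (hn : 3 ≤ n) : 2 ∣ Nat.card (Matrix.ProjectiveSpecialLinearGroup (Fin n) F) := by
  have hq : 2 ≤ Fintype.card F := Fintype.one_lt_card
  by_cases hev : 2 ∣ Fintype.card F
  · exact char_dvd_card Nat.prime_two hev (by omega)
  have h := S0243.result (F := F) rfl n (by omega)
  obtain ⟨d, hd⟩ : ∃ d, Fintype.card F = d + 1 := ⟨Fintype.card F - 1, by omega⟩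
  have hd2 : 2 ∣ d := by omega
  have hd0 : 0 < d := by omega
  have h1 : (Fintype.card F ^ 3 - 1) * ((Fintype.card F ^ 2 - 1) * (Fintype.card F ^ 1 - 1)) ∣
      ∏ i : Fin n, (Fintype.card F ^ n - Fintype.card F ^ (i : ℕ)) := by
    have e1 : (⟨n - 3, by omega⟩ : Fin n) ≠ ⟨n - 2, by omega⟩ := fun h => by
      have := congrArg Fin.val h
      simp only at this
      omega
    have e2 : (⟨n - 3, by omega⟩ : Fin n) ≠ ⟨n - 1, by omega⟩ := fun h => by
      have := congrArg Fin.val h
      simp only at this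
      omega
    have e3 : (⟨n - 2, by omega⟩ : Fin n) ≠ ⟨n - 1, by omega⟩ := fun h => by
      have := congrArg Fin.val h
      simp only at this
      omega
    have h2 : ∏ i ∈ ({⟨n - 3, by omega⟩, ⟨n - 2, by omega⟩, ⟨n - 1, by omega⟩} : Finset (Fin n)),
        (Fintype.card F ^ n - Fintype.card F ^ (i : ℕ)) =
        (Fintype.card F ^ n - Fintype.card F ^ (n - 3)) * ((Fintype.card F ^ n - Fintype.card F ^ (n - 2)) *
          (Fintype.card F ^ n - Fintype.card F ^ (n - 1))) := by
      rw [Finset.prod_insert (by simp [e1, e2]), Finset.prod_insert (by simp [e3]), Finset.prod_singleton]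
    refine Dvd.dvd.trans ?_ (Finset.prod_dvd_prod_of_subset
      ({⟨n - 3, by omega⟩, ⟨n - 2, by omega⟩, ⟨n - 1, by omega⟩} : Finset (Fin n)) _ _ (Finset.subset_univ _))
    rw [h2]
    have key : ∀ j, j ≤ n → Fintype.card F ^ j - 1 ∣ Fintype.card F ^ n - Fintype.card F ^ (n - j) := by
      intro j hj
      refine ⟨Fintype.card F ^ (n - j), ?_⟩
      rw [Nat.sub_mul, one_mul, ← pow_add]
      congr 2
      omega
    exact mul_dvd_mul (key 3 hn) (mul_dvd_mul (key 2 (by omega)) (key 1 (by omega)))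
  obtain ⟨k, hk⟩ := h1
  rw [hk] at h
  obtain ⟨e, he⟩ : Nat.gcd n (Fintype.card F - 1) ∣ d := by
    have h5 := Nat.gcd_dvd_right n (Fintype.card F - 1)
    have h6 : Fintype.card F - 1 = d := by omega
    exact h5.trans (dvd_of_eq h6)
  have hg0 : 0 < Nat.gcd n (Fintype.card F - 1) := Nat.gcd_pos_of_pos_left _ (by omega)
  set g := Nat.gcd n (Fintype.card F - 1) with hg
  set c := Nat.card (Matrix.ProjectiveSpecialLinearGroup (Fin n) F) with hc
  have a1 : Fintype.card F - 1 = d := by omega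
  have a2 : Fintype.card F ^ 1 - 1 = d := by rw [pow_one]; exact a1
  have a3 : Fintype.card F ^ 2 - 1 = d * (d + 2) := by
    rw [hd]
    have : (d + 1) ^ 2 = d * (d + 2) + 1 := by ring
    rw [this, Nat.add_sub_cancel]
  have a4 : Fintype.card F ^ 3 - 1 = d * (d ^ 2 + 3 * d + 3) := by
    rw [hd]
    have : (d + 1) ^ 3 = d * (d ^ 2 + 3 * d + 3) + 1 := by ring
    rw [this, Nat.add_sub_cancel]
  rw [a1, a2, a3, a4] at h
  have h3 : (g * d) * c = (g * d) * (e * d * (d + 2) * (d ^ 2 + 3 * d + 3) * k) := by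
    calc (g * d) * c = g * (d * c) := by ring
      _ = d * (d ^ 2 + 3 * d + 3) * (d * (d + 2) * d) * k := h
      _ = d * (d ^ 2 + 3 * d + 3) * ((g * e) * (d + 2) * d) * k := by
          conv_rhs => rw [← he]
      _ = _ := by ring
  have h4 := Nat.eq_of_mul_eq_mul_left (Nat.mul_pos hg0 hd0) h3
  rw [h4]
  exact Dvd.dvd.mul_right (Dvd.dvd.mul_right (Dvd.dvd.mul_right (Dvd.dvd.mul_left hd2 _) _) _) _

end Cfsg.Agent.H304.PslT

private theorem dce_e8595f17a2d7 : _root_.True := by
  try have : _root_.True := by simp only [_root_.Cfsg.Agent.H304.PslT.pre.eq_1]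
  exact _root_.True.intro
end

-- part: H304/PslRes
section
set_option linter.all false
open scoped Cfsg.Agent.FastGrp

/-!
# Residual maximal subgroups of `PSL_n(F)`: the order divides `|Aut(S)|` (helper304, TEAM ELUSIVE)
-/

set_option autoImplicit false
set_option linter.style.haveILetI false

namespace Cfsg.Agent.H304.PslT

open Matrix Cfsg Cfsg.Geo

variable {F : Type*} [Field F] {n : ℕ}

theorem center_iff {a : Matrix.SpecialLinearGroup (Fin n) F} (hn : 0 < n) :
    a ∈ Subgroup.center (Matrix.SpecialLinearGroup (Fin n) F) ↔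
      Matrix.SpecialLinearGroup.toGL a ∈ scalars (Fin n) F := by
  rw [Matrix.SpecialLinearGroup.mem_center_iff, mem_scalars_iff]
  constructor
  · rintro ⟨r, hr, hra⟩
    have hr0 : r ≠ 0 := by
      rintro rfl
      rw [Fintype.card_fin, zero_pow hn.ne'] at hr
      exact zero_ne_one hr
    refine ⟨Units.mk0 r hr0, ?_⟩
    show (a : Matrix (Fin n) (Fin n) F) = r • 1
    rw [← hra, Matrix.smul_one_eq_diagonal]
    rfl
  · rintro ⟨c, hc⟩
    have hc' : (a : Matrix (Fin n) (Fin n) F) = (c : F) • 1 := hc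
    refine ⟨c, ?_, ?_⟩
    · have h1 := a.2
      rw [hc', Matrix.det_smul, Matrix.det_one, mul_one] at h1
      exact h1
    · rw [hc', Matrix.smul_one_eq_diagonal]
      rfl

/-- `pre M` modulo scalars is `M` -/
theorem exists_pre_equiv (hn : 0 < n) (M : Subgroup (Matrix.ProjectiveSpecialLinearGroup (Fin n) F)) :
    Nonempty ((pre M ⧸ (scalars (Fin n) F).subgroupOf (pre M)) ≃* M) := by
  -- `M.comap pr ≃* pre M`
  let e1 : (M.comap (pr n F)) ≃* pre M :=
    (M.comap (pr n F)).equivMapOfInjective Matrix.SpecialLinearGroup.toGL toGL_injective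
  let f : (M.comap (pr n F)) →* M := (pr n F).subgroupComap M
  have hf : Function.Surjective f := MonoidHom.subgroupComap_surjective_of_surjective _ _ (QuotientGroup.mk'_surjective _)
  let g : pre M →* M := f.comp e1.symm.toMonoidHom
  have hg : Function.Surjective g := hf.comp e1.symm.surjective
  have hker : g.ker = (scalars (Fin n) F).subgroupOf (pre M) := by
    ext x
    rw [MonoidHom.mem_ker, Subgroup.mem_subgroupOf]
    obtain ⟨a, rfl⟩ := e1.surjective x
    have h1 : g (e1 a) = f a := by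
      show f (e1.symm (e1 a)) = f a
      rw [MulEquiv.symm_apply_apply]
    have h2 : ((e1 a : pre M) : GL (Fin n) F) = Matrix.SpecialLinearGroup.toGL (a : Matrix.SpecialLinearGroup (Fin n) F) := rfl
    rw [h1, h2, ← center_iff hn]
    constructor
    · intro h
      have h3 : pr n F (a : Matrix.SpecialLinearGroup (Fin n) F) = 1 := congrArg Subtype.val h
      exact (QuotientGroup.eq_one_iff _).mp h3
    · intro h
      apply Subtype.ext
      show pr n F (a : Matrix.SpecialLinearGroup (Fin n) F) = 1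
      exact (QuotientGroup.eq_one_iff _).mpr h
  exact ⟨(QuotientGroup.quotientMulEquivOfEq hker.symm).trans (QuotientGroup.quotientKerEquivOfSurjective g hg)⟩

/-- a residual subgroup embeds in `Aut(S)` -/
theorem exists_inj (hn : 0 < n) {M : Subgroup (Matrix.ProjectiveSpecialLinearGroup (Fin n) F)}
    {P : Subgroup (GL (Fin n) F)} (h : IsResidualCore (pre M) P) :
    ∃ φ : M →* MulAut (P ⧸ (scalars (Fin n) F).subgroupOf P), Function.Injective φ := by
  obtain ⟨φ, hφ⟩ := Cfsg.Agent.H900.SU4.exists_core_inj h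
  obtain ⟨e⟩ := exists_pre_equiv hn M
  exact ⟨φ.comp e.symm.toMonoidHom, hφ.comp e.symm.injective⟩

theorem card_dvd_mulAut (hn : 0 < n) {M : Subgroup (Matrix.ProjectiveSpecialLinearGroup (Fin n) F)}
    {P : Subgroup (GL (Fin n) F)} (h : IsResidualCore (pre M) P) :
    Nat.card M ∣ Nat.card (MulAut (P ⧸ (scalars (Fin n) F).subgroupOf P)) := by
  obtain ⟨φ, hφ⟩ := exists_inj hn h
  exact Subgroup.card_dvd_of_injective φ hφ

end Cfsg.Agent.H304.PslT
end

-- part: H304/ExtInv
section
set_option linter.all false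
open scoped Cfsg.Agent.FastGrp

/-!
# The normaliser of a maximal subfield of `M_n(F)`, `n` odd, contains no involution of determinant one
(helper304, TEAM ELUSIVE)
-/

set_option autoImplicit false
set_option linter.style.haveILetI false

namespace Cfsg.Agent.H304.ExtInv

open Matrix Cfsg Cfsg.Geo

theorem no_involution {F : Type*} [Field F] [Fintype F] {n : ℕ} (hn : Odd n)
    {K : Subalgebra F (Matrix (Fin n) (Fin n) F)} (hK : IsFieldSubalgebra n K)
    {x : GL (Fin n) F} (hx : orderOf x = 2) (hxK : x ∈ subalgebraNormalizer K)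
    (hxS : x ∈ specialLinear (Fin n) F) : False := by
  have hn0 : 0 < n := hn.pos
  haveI : Nonempty (Fin n) := ⟨⟨0, hn0⟩⟩
  obtain ⟨L, _, _, φ, hφ, hL⟩ := Cfsg.Agent.H954.FieldSub.exists_field hK
  have hinj : Function.Injective φ := φ.toRingHom.injective
  haveI : Module.Finite F L := Module.finite_of_finrank_pos (by rw [hL]; exact hn0)
  haveI : Finite L := Module.finite_of_finite F
  have hx2 : x * x = 1 := by
    have := pow_orderOf_eq_one x
    rw [hx, pow_two] at this
    exact this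
  have hxinv : ((x⁻¹ : GL (Fin n) F) : Matrix (Fin n) (Fin n) F) = x := by
    rw [inv_eq_of_mul_eq_one_left hx2]
  have hxx : (x : Matrix (Fin n) (Fin n) F) * x = 1 := by
    rw [← Units.val_mul, hx2, Units.val_one]
  -- the induced automorphism
  have hex : ∀ l : L, ∃ l' : L, φ l' = (x : Matrix (Fin n) (Fin n) F) * φ l * x := by
    intro l
    have h1 : φ l ∈ K := by rw [← hφ]; exact ⟨l, rfl⟩
    have h2 := (hxK (φ l)).mp h1
    rw [hxinv, ← hφ] at h2
    exact h2
  choose f hf using hex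
  have hff : ∀ l, f (f l) = l := by
    intro l
    apply hinj
    rw [hf, hf]
    calc (x : Matrix (Fin n) (Fin n) F) * (x * φ l * x) * x = (x * x) * φ l * (x * x) := by
          simp only [Matrix.mul_assoc]
      _ = φ l := by rw [hxx, Matrix.one_mul, Matrix.mul_one]
  let ψ : L ≃ₐ[F] L :=
    { toFun := f
      invFun := f
      left_inv := hff
      right_inv := hff
      map_mul' := fun a b => by
        apply hinj
        rw [map_mul, hf, hf, hf, map_mul]
        calc (x : Matrix (Fin n) (Fin n) F) * (φ a * φ b) * x = x * φ a * 1 * φ b * x := by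
              rw [Matrix.mul_one]; simp only [Matrix.mul_assoc]
          _ = x * φ a * x * (x * φ b * x) := by rw [← hxx]; simp only [Matrix.mul_assoc]
      map_add' := fun a b => by
        apply hinj
        rw [map_add, hf, hf, hf, map_add, Matrix.mul_add, Matrix.add_mul]
      commutes' := fun c => by
        apply hinj
        rw [hf, AlgHom.commutes, Algebra.algebraMap_eq_smul_one, Matrix.mul_smul, Matrix.mul_one, Matrix.smul_mul, hxx] }
  have hψ2 : ψ ^ 2 = 1 := by
    ext l
    exact hff l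
  have hψ : ψ = 1 := by
    have h1 : orderOf ψ ∣ 2 := orderOf_dvd_of_pow_eq_one hψ2
    have h2 : orderOf ψ ∣ n := by
      have := _root_.orderOf_dvd_natCard ψ
      rwa [IsGalois.card_aut_eq_finrank, hL] at this
    have h3 : orderOf ψ = 1 := Nat.eq_one_of_dvd_coprimes hn.coprime_two_left h1 h2
    exact orderOf_eq_one_iff.mp h3
  have hcomm : ∀ l : L, (x : Matrix (Fin n) (Fin n) F) * φ l = φ l * x := by
    intro l
    have h1 : f l = l := DFunLike.congr_fun hψ l
    have h2 := hf l
    rw [h1] at h2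
    calc (x : Matrix (Fin n) (Fin n) F) * φ l = x * φ l * (x * x) := by rw [hxx, Matrix.mul_one]
      _ = (x * φ l * x) * x := by simp only [Matrix.mul_assoc]
      _ = _ := by rw [← h2]
  -- the orbit map
  obtain ⟨v, hv⟩ : ∃ v : Fin n → F, v ≠ 0 := exists_ne 0
  let g : L →ₗ[F] (Fin n → F) :=
    { toFun := fun l => φ l *ᵥ v
      map_add' := fun a b => by rw [map_add, Matrix.add_mulVec]
      map_smul' := fun c a => by rw [map_smul, Matrix.smul_mulVec, RingHom.id_apply] }
  have hginj : Function.Injective g := by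
    rw [injective_iff_map_eq_zero]
    intro l hl
    by_contra hl0
    apply hv
    have h1 : φ l⁻¹ *ᵥ (φ l *ᵥ v) = v := by
      rw [Matrix.mulVec_mulVec, ← map_mul, inv_mul_cancel₀ hl0, map_one, Matrix.one_mulVec]
    rw [← h1, show φ l *ᵥ v = 0 from hl, Matrix.mulVec_zero]
  have hgsurj : Function.Surjective g := by
    have h1 : Module.finrank F L = Module.finrank F (Fin n → F) := by
      rw [hL, Module.finrank_fintype_fun_eq_card, Fintype.card_fin]
    exact (LinearMap.injective_iff_surjective_of_finrank_eq_finrank h1).mp hginj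
  obtain ⟨l, hl⟩ := hgsurj ((x : Matrix (Fin n) (Fin n) F) *ᵥ v)
  have hxl : (x : Matrix (Fin n) (Fin n) F) = φ l := by
    apply Matrix.mulVec_injective
    ext1 w
    obtain ⟨l', rfl⟩ := hgsurj w
    show (x : Matrix (Fin n) (Fin n) F) *ᵥ (φ l' *ᵥ v) = φ l *ᵥ (φ l' *ᵥ v)
    rw [Matrix.mulVec_mulVec, hcomm, ← Matrix.mulVec_mulVec, ← hl]
    show φ l' *ᵥ (φ l *ᵥ v) = _
    rw [Matrix.mulVec_mulVec, Matrix.mulVec_mulVec, ← map_mul, ← map_mul, mul_comm]
  have hl2 : l * l = 1 := by
    apply hinj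
    rw [map_mul, ← hxl, hxx, map_one]
  rcases mul_self_eq_one_iff.mp hl2 with h1 | h1
  · rw [h1, map_one] at hxl
    have : x = 1 := Units.ext hxl
    rw [this, orderOf_one] at hx
    norm_num at hx
  · rw [h1, map_neg, map_one] at hxl
    have h2 : (x : Matrix (Fin n) (Fin n) F).det = 1 := congrArg Units.val (MonoidHom.mem_ker.mp hxS)
    rw [hxl, Matrix.det_neg, Matrix.det_one, mul_one, Fintype.card_fin, hn.neg_one_pow] at h2
    have : x = 1 := by
      apply Units.ext
      rw [hxl, Units.val_one]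
      ext i j
      rw [Matrix.neg_apply, Matrix.one_apply]
      split_ifs
      · exact h2
      · exact neg_zero
    rw [this, orderOf_one] at hx
    norm_num at hx

end Cfsg.Agent.H304.ExtInv
end

-- part: H304/GeoL
section
set_option linter.all false
open scoped Cfsg.Agent.FastGrp

/-!
# Row EL-GEO-L: the geometric maximal subgroups of `PSL_n(q)`, `n ≥ 3` (helper304, TEAM ELUSIVE)

Every geometric maximal subgroup `M` has a prime `u ∣ |T|`, `u ∤ |M|`, except the stabilisers of points and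
hyperplanes in `PSL_6(2)`.
-/

set_option autoImplicit false
set_option linter.style.haveILetI false

namespace Cfsg.Agent.H304.GeoL

open Matrix Cfsg Cfsg.Geo Cfsg.Agent.H728.DghpNum Cfsg.Agent.H304.Ppd Cfsg.Agent.H304.PslT
  Cfsg.Agent.H251.GeoCard

variable {F : Type*} [Field F] [Fintype F] {n : ℕ}

/-- the missing prime -/
def Miss (M : Subgroup (Matrix.ProjectiveSpecialLinearGroup (Fin n) F)) : Prop :=
  ∃ u : ℕ, u.Prime ∧ u ∣ Nat.card (Matrix.ProjectiveSpecialLinearGroup (Fin n) F) ∧ ¬ u ∣ Nat.card M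

theorem miss_of_elt {M : Subgroup (Matrix.ProjectiveSpecialLinearGroup (Fin n) F)} {e u : ℕ}
    (hP : Ppd (Fintype.card F) e u) (he : 2 ≤ e) (hen : e ≤ n)
    (h : ∀ x ∈ pre M, orderOf x = u → False) : Miss M := by
  refine ⟨u, hP.prime, dvd_card he hen hP, fun hd => ?_⟩
  obtain ⟨x, hx, hxM⟩ := exists_of_dvd hP.prime hd
  exact h x hxM hx

theorem miss_of_card {M : Subgroup (Matrix.ProjectiveSpecialLinearGroup (Fin n) F)} {e u : ℕ}
    (hP : Ppd (Fintype.card F) e u) (he : 2 ≤ e) (hen : e ≤ n) {X : Subgroup (GL (Fin n) F)}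
    (hX : pre M ≤ X) (h : ¬ u ∣ Nat.card X) : Miss M := by
  refine miss_of_elt hP he hen fun x hx hxu => h ?_
  rw [← hxu, ← Subgroup.orderOf_mk x (hX hx)]
  exact _root_.orderOf_dvd_natCard _

theorem dvd_iff' {q e u : ℕ} (hP : Ppd q e u) {m : ℕ} (h : Div u q m) : e ≤ m := by
  obtain ⟨i, h1, h2, h3⟩ := h
  have := Nat.le_of_dvd h1 ((hP.dvd_iff i).mp h3)
  omega

/-- a good prime for the classes 2, 4, 7 -/
theorem exists_good (hn : 3 ≤ n) : ∃ e u : ℕ, Ppd (Fintype.card F) e u ∧ n < u ∧ n < 2 * e ∧ e ≤ n ∧ 2 ≤ e := by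
  have hq : 2 ≤ Fintype.card F := Fintype.one_lt_card
  by_cases h : Fintype.card F = 2 ∧ n = 6
  · obtain ⟨hF, rfl⟩ := h
    obtain ⟨u, hu⟩ := exists_ppd (q := 2) (e := 5) le_rfl (by norm_num) (by norm_num)
    refine ⟨5, u, by rw [hF]; exact hu, ?_, by norm_num, by norm_num, by norm_num⟩
    have h1 := (hu.dvd_iff 5).mpr dvd_rfl
    norm_num at h1
    have h2 : u = 31 := by
      rcases (Nat.dvd_prime (by norm_num)).mp h1 with h3 | h3
      · exact absurd h3 hu.prime.one_lt.ne'
      · exact h3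
    omega
  · obtain ⟨u, hu⟩ := exists_ppd hq hn (by tauto)
    exact ⟨n, u, hu, hu.lt, by omega, le_rfl, by omega⟩

theorem class2 (hn : 3 ≤ n) {M : Subgroup (Matrix.ProjectiveSpecialLinearGroup (Fin n) F)}
    {t m : ℕ} {D : Fin t → Submodule F (Fin n → F)} (htm : t * m = n) (hD : IsMDecomposition m D)
    (hM : pre M ≤ decompositionStabilizer D) : Miss M := by
  obtain ⟨e, u, hP, h1, h2, h3, h4⟩ := exists_good (F := F) hn
  refine miss_of_card hP h4 h3 hM fun hd => ?_
  have ht := hD.two_le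
  have hm := hD.pos
  have hF : ¬ u ∣ Nat.card F := by rw [Nat.card_eq_fintype_card]; exact hP.ndvd
  rcases decomp hD hP.prime hF hd with h5 | h5
  · have : t ≤ n := by rw [← htm]; exact Nat.le_mul_of_pos_right t hm
    omega
  · rw [Nat.card_eq_fintype_card] at h5
    have h6 := dvd_iff' hP h5
    have : 2 * m ≤ n := by rw [← htm]; exact Nat.mul_le_mul_right m ht
    omega

theorem class4 (hn : 3 ≤ n) {M : Subgroup (Matrix.ProjectiveSpecialLinearGroup (Fin n) F)}
    {n₁ n₂ : ℕ} {e : Fin n ≃ Fin n₁ × Fin n₂} {P : GL (Fin n) F} (h1 : 2 ≤ n₁) (h12 : n₁ < n₂) (hnn : n₁ * n₂ = n)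
    (hM : pre M ≤ tensorProductSubgroup n₁ n₂ e P) : Miss M := by
  obtain ⟨e, u, hP, h2, h3, h4, h5⟩ := exists_good (F := F) hn
  refine miss_of_card hP h5 h4 hM fun hd => ?_
  have hF : ¬ u ∣ Nat.card F := by rw [Nat.card_eq_fintype_card]; exact hP.ndvd
  have h6 := tensor _ _ hP.prime hF hd
  rw [Nat.card_eq_fintype_card] at h6
  have h7 := dvd_iff' hP h6
  rw [max_eq_right h12.le] at h7
  have : 2 * n₂ ≤ n := by rw [← hnn]; exact Nat.mul_le_mul_right n₂ h1
  omega

theorem class7 (hn : 3 ≤ n) {M : Subgroup (Matrix.ProjectiveSpecialLinearGroup (Fin n) F)}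
    {m t : ℕ} {e : Fin n ≃ (Fin t → Fin m)} {P : GL (Fin n) F} (hm : 3 ≤ m) (ht : 2 ≤ t) (hmt : m ^ t = n)
    (hM : pre M ≤ tensorWreathSubgroup m t e P) : Miss M := by
  obtain ⟨e, u, hP, h2, h3, h4, h5⟩ := exists_good (F := F) hn
  refine miss_of_card hP h5 h4 hM fun hd => ?_
  have hF : ¬ u ∣ Nat.card F := by rw [Nat.card_eq_fintype_card]; exact hP.ndvd
  rcases wreath _ _ hP.prime hF hd with h6 | h6
  · have : t < m ^ t := Nat.lt_pow_self (by omega)
    omega
  · rw [Nat.card_eq_fintype_card] at h6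
    have h7 := dvd_iff' hP h6
    have h8 : m ^ 2 ≤ m ^ t := Nat.pow_le_pow_right (by omega) ht
    have h9 : 2 * m ≤ m ^ 2 := by rw [pow_two]; exact Nat.mul_le_mul_right m (by omega)
    omega

theorem class3 (hn : 3 ≤ n) {M : Subgroup (Matrix.ProjectiveSpecialLinearGroup (Fin n) F)}
    {r : ℕ} {K : Subalgebra F (Matrix (Fin n) (Fin n) F)} (hr : r.Prime) (hrn : r ∣ n) (hK : IsFieldSubalgebra r K)
    (hM : pre M ≤ subalgebraNormalizer K) : Miss M := by
  have hq : 2 ≤ Fintype.card F := Fintype.one_lt_card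
  haveI : Nonempty (Fin n) := ⟨⟨0, by omega⟩⟩
  by_cases hrn' : r = n
  · subst hrn'
    refine ⟨2, Nat.prime_two, even_card hn, fun hd => ?_⟩
    obtain ⟨x, hx, hxM⟩ := exists_of_dvd Nat.prime_two hd
    exact ExtInv.no_involution (hr.odd_of_ne_two (by omega)) hK hx (hM hxM) (mem_specialLinear_of_mem_pre hxM)
  · have hlt : r < n := lt_of_le_of_ne (Nat.le_of_dvd (by omega) hrn) hrn'
    obtain ⟨c, hc⟩ := hrn
    have hc2 : 2 ≤ c := by
      rcases c with _ | _ | c
      · omega
      · omega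
      · omega
    have hr2 := hr.two_le
    have h4 : 4 ≤ n := by rw [hc]; exact Nat.mul_le_mul hr2 hc2
    have h7 : n ≠ 7 := by
      rintro rfl
      have h8 : Nat.Prime 7 := by norm_num
      rcases (Nat.dvd_prime h8).mp ⟨c, hc⟩ with h9 | h9
      · exact hr.one_lt.ne' h9
      · exact hrn' h9
    obtain ⟨u, hP⟩ := exists_ppd (q := Fintype.card F) (e := n - 1) hq (by omega) (by omega)
    refine miss_of_card hP (by omega) (by omega) hM fun hd => ?_
    have hF : ¬ u ∣ Nat.card F := by rw [Nat.card_eq_fintype_card]; exact hP.ndvd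
    rcases extension hr hK hP.prime hF hd with h5 | ⟨i, h5, h6, h8⟩
    · have := hP.lt
      have h9 : 2 * r ≤ n := by rw [hc, mul_comm]; exact Nat.mul_le_mul_left r hc2
      omega
    · rw [Nat.card_eq_fintype_card, ← pow_mul, hP.dvd_iff] at h8
      rw [Fintype.card_fin] at h6
      have h9 : r * i ≤ n := (Nat.mul_le_mul_left r h6).trans (Nat.mul_div_le n r)
      have h10 : 0 < r * i := Nat.mul_pos hr.pos (by omega)
      obtain ⟨j, hj⟩ := h8
      have hj1 : j = 1 := by
        have hj0 : 0 < j := by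
          rcases Nat.eq_zero_or_pos j with h | h
          · rw [h, mul_zero] at hj; omega
          · exact h
        by_contra hj1
        have : (n - 1) * 2 ≤ (n - 1) * j := Nat.mul_le_mul_left _ (by omega)
        omega
      rw [hj1, mul_one] at hj
      have h11 : r ∣ n - 1 := ⟨i, hj.symm⟩
      have h12 : r ∣ n := ⟨c, hc⟩
      have h13 : r ∣ 1 := by
        have := Nat.dvd_sub h12 h11
        rwa [show n - (n - 1) = 1 by omega] at this
      exact hr.one_lt.ne' (Nat.dvd_one.mp h13)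

theorem class5 (hn : 3 ≤ n) {M : Subgroup (Matrix.ProjectiveSpecialLinearGroup (Fin n) F)}
    {F₀ : Subfield F} {r : ℕ} {P : GL (Fin n) F} (hr : r.Prime) (hF₀ : Fintype.card F = Nat.card F₀ ^ r)
    (hM : pre M ≤ subfieldSubgroup F₀ P) : Miss M := by
  have hq0 : 2 ≤ Nat.card F₀ := Finite.one_lt_card
  have hr2 := hr.two_le
  have key : ∀ e u : ℕ, Ppd (Nat.card F₀) (r * e) u → 2 ≤ e → e ≤ n → n < r * e → Miss M := by
    intro e u hu he hen hne
    have hP : Ppd (Fintype.card F) e u := by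
      have := hu.pow r hr.ne_zero
      rw [← hF₀, Nat.gcd_comm, Nat.gcd_mul_right_right, Nat.mul_div_cancel_left _ hr.pos] at this
      exact this
    refine miss_of_card hP he hen hM fun hd => ?_
    have hF : ¬ u ∣ Nat.card F := by rw [Nat.card_eq_fintype_card]; exact hP.ndvd
    rcases subfield hP.prime hF hd with h1 | h1
    · rw [Nat.card_eq_fintype_card] at h1
      have := (hP.dvd_iff 1).mp (by rwa [pow_one])
      exact absurd (Nat.le_of_dvd one_pos this) (by omega)
    · have h2 := dvd_iff' hu h1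
      rw [Fintype.card_fin] at h2
      omega
  have h6 : 6 ≤ r * n := Nat.mul_le_mul hr2 hn
  by_cases hex : Nat.card F₀ = 2 ∧ r * n = 6
  · obtain ⟨h1, h2⟩ := hex
    have hn3 : n = 3 := by
      by_contra h
      have : 2 * 4 ≤ r * n := Nat.mul_le_mul hr2 (by omega)
      omega
    subst hn3
    have hr' : r = 2 := by omega
    subst hr'
    obtain ⟨u, hu⟩ := exists_ppd (q := Nat.card F₀) (e := 2 * 2) hq0 (by norm_num) (by omega)
    exact key 2 u hu le_rfl (by norm_num) (by norm_num)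
  · obtain ⟨u, hu⟩ := exists_ppd (q := Nat.card F₀) (e := r * n) hq0 (by omega) hex
    refine key n u hu (by omega) le_rfl ?_
    have : 2 * n ≤ r * n := Nat.mul_le_mul_right n hr2
    omega

theorem class6 (hn : 3 ≤ n) {M : Subgroup (Matrix.ProjectiveSpecialLinearGroup (Fin n) F)}
    {r k : ℕ} {R : Subgroup (GL (Fin n) F)} (hR : IsLinearSymplecticTypeData r R) (hro : Odd r)
    (hk : 1 ≤ k) (hnk : n = r ^ k) (hZ : Nat.card (Subgroup.center R) = r) (hc : Nat.card R = r ^ (1 + 2 * k))
    (hM : pre M ≤ subgroupNormalizer R) : Miss M := by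
  have hq : 2 ≤ Fintype.card F := Fintype.one_lt_card
  haveI : Nonempty (Fin n) := ⟨⟨0, by omega⟩⟩
  have hno : Odd n := by rw [hnk]; exact hro.pow
  obtain ⟨u, hP⟩ := exists_ppd (q := Fintype.card F) (e := n) hq hn (by
    rintro ⟨-, h6⟩
    rw [h6] at hno
    exact absurd hno (by decide))
  refine miss_of_card hP (by omega) le_rfl hM fun hd => ?_
  have hlt := hP.lt
  rcases symplecticType hR.symplecticType hR.absIrred (Or.inl ⟨hro, hZ, hc⟩) hk hP.prime hd with h1 | h1 | h1
  · have : r ≤ r ^ k := Nat.le_self_pow (by omega) r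
    omega
  · rw [Nat.card_eq_fintype_card] at h1
    have := (hP.dvd_iff 1).mp (by rwa [pow_one])
    exact absurd (Nat.le_of_dvd one_pos this) (by omega)
  · rw [← hnk] at h1
    have h2 : u = n + 1 := by omega
    have h3 : Even u := by rw [h2]; exact hno.add_one
    have h4 := (hP.prime.even_iff).mp h3
    omega

theorem class6' (hn : 3 ≤ n) {M : Subgroup (Matrix.ProjectiveSpecialLinearGroup (Fin n) F)}
    {k : ℕ} {R : Subgroup (GL (Fin n) F)} (hR : IsLinearSymplecticTypeData 2 R)
    (hnk : n = 2 ^ k) (hZ : Nat.card (Subgroup.center R) = 4) (hc : Nat.card R = 2 ^ (2 + 2 * k))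
    (hM : pre M ≤ subgroupNormalizer R) : Miss M := by
  have hq : 2 ≤ Fintype.card F := Fintype.one_lt_card
  haveI : Nonempty (Fin n) := ⟨⟨0, by omega⟩⟩
  have hk2 : 2 ≤ k := by
    rcases k with _ | _ | k
    · rw [hnk] at hn; norm_num at hn
    · rw [hnk] at hn; norm_num at hn
    · omega
  have h4 : 4 ≤ n := by
    rw [hnk]
    calc 4 = 2 ^ 2 := by norm_num
      _ ≤ 2 ^ k := Nat.pow_le_pow_right (by norm_num) hk2
  have hne : Even n := by rw [hnk]; exact (Nat.even_pow.mpr ⟨even_two, by omega⟩)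
  obtain ⟨u, hP⟩ := exists_ppd (q := Fintype.card F) (e := n - 1) hq (by omega) (by
    rintro ⟨-, h6⟩
    obtain ⟨c, hc⟩ := hne
    omega)
  refine miss_of_card hP (by omega) (by omega) hM fun hd => ?_
  have hlt := hP.lt
  rcases symplecticType hR.symplecticType hR.absIrred (Or.inr ⟨rfl, hZ, hc⟩) (by omega) hP.prime hd with h1 | h1 | h1
  · omega
  · rw [Nat.card_eq_fintype_card] at h1
    have := (hP.dvd_iff 1).mp (by rwa [pow_one])
    exact absurd (Nat.le_of_dvd one_pos this) (by omega)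
  · rw [← hnk] at h1
    obtain ⟨j, hj⟩ := hP.dvd_pred
    have hu1 : 0 < u - 1 := by have := hP.prime.one_lt; omega
    have hj1 : j = 1 := by
      have hj0 : 0 < j := by
        rcases Nat.eq_zero_or_pos j with h | h
        · rw [h, mul_zero] at hj; omega
        · exact h
      by_contra hj1
      have : (n - 1) * 2 ≤ (n - 1) * j := Nat.mul_le_mul_left _ (by omega)
      omega
    rw [hj1, mul_one] at hj
    have h2 : u = n := by omega
    have h3 := (hP.prime.even_iff).mp (h2 ▸ hne)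
    omega

theorem class8_symp {M : Subgroup (Matrix.ProjectiveSpecialLinearGroup (Fin n) F)}
    {f : (Fin n → F) → (Fin n → F) → F} (hf : IsSymplecticForm f) (hne : Even n) (h4 : 4 ≤ n)
    (hM : pre M ≤ similarityGroup f) : Miss M := by
  have hq : 2 ≤ Fintype.card F := Fintype.one_lt_card
  haveI : Nonempty (Fin n) := ⟨⟨0, by omega⟩⟩
  obtain ⟨c, hc⟩ := hne
  obtain ⟨u, hP⟩ := exists_ppd (q := Fintype.card F) (e := n - 1) hq (by omega) (by omega)
  refine miss_of_elt hP (by omega) (by omega) fun x hx hxu => ?_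
  have h1 := even_of_bilinear hP (by omega) (by rw [Fintype.card_fin]; omega) hxu hf.bilinear hf.nondegenerate (hM hx)
  obtain ⟨d, hd⟩ := h1
  omega

theorem class8_quad (hn : 3 ≤ n) {M : Subgroup (Matrix.ProjectiveSpecialLinearGroup (Fin n) F)}
    {Q : (Fin n → F) → F} (hQ : IsNondegenerateQuadraticForm Q)
    (hM : pre M ≤ quadSimilarityGroup Q) : Miss M := by
  have hq : 2 ≤ Fintype.card F := Fintype.one_lt_card
  haveI : Nonempty (Fin n) := ⟨⟨0, by omega⟩⟩
  obtain ⟨e, heo, he3, hen, hne⟩ : ∃ e, Odd e ∧ 3 ≤ e ∧ e ≤ n ∧ n < 2 * e := by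
    rcases Nat.even_or_odd n with h | h
    · obtain ⟨c, hc⟩ := h
      exact ⟨n - 1, ⟨c - 1, by omega⟩, by omega, by omega, by omega⟩
    · exact ⟨n, h, hn, le_rfl, by omega⟩
  obtain ⟨u, hP⟩ := exists_ppd (q := Fintype.card F) (e := e) hq he3 (by
    rintro ⟨-, h6⟩
    rw [h6] at heo
    exact absurd heo (by decide))
  refine miss_of_elt hP (by omega) hen fun x hx hxu => ?_
  have h1 := even_of_quadratic hP (by omega) (by rw [Fintype.card_fin]; omega) hxu hQ (hM hx)
  exact (Nat.not_even_iff_odd.mpr heo) h1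

theorem class8_unit (hn : 3 ≤ n) {M : Subgroup (Matrix.ProjectiveSpecialLinearGroup (Fin n) F)}
    {σ : F ≃+* F} {f : (Fin n → F) → (Fin n → F) → F} (hf : IsUnitaryForm σ f)
    (hM : pre M ≤ similarityGroup f) : Miss M := by
  haveI : Nonempty (Fin n) := ⟨⟨0, by omega⟩⟩
  obtain ⟨p, k, hp, hpF, hF, hσ⟩ := exists_frobenius hf.ne_refl hf.involutive
  haveI : Fact p.Prime := ⟨hp⟩
  obtain ⟨e, heo, he2, hen, hne⟩ : ∃ e, Even e ∧ 2 ≤ e ∧ e ≤ n ∧ n < 2 * e := by
    rcases Nat.even_or_odd n with h | h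
    · exact ⟨n, h, by omega, le_rfl, by omega⟩
    · obtain ⟨c, hc⟩ := h
      exact ⟨n - 1, ⟨c, by omega⟩, by omega, by omega, by omega⟩
  have hq0 : 2 ≤ p ^ k := by
    have h1 : 1 < Fintype.card F := Fintype.one_lt_card
    rcases Nat.eq_zero_or_pos k with h | h
    · rw [hF, h] at h1; norm_num at h1
    · exact hp.two_le.trans (Nat.le_self_pow (by omega) p)
  obtain ⟨u, hP⟩ := exists_ppd (q := p ^ k) (e := 2 * e) hq0 (by omega) (by
    rintro ⟨-, h6⟩
    obtain ⟨c, hc⟩ := heo
    omega)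
  have hPq : Ppd (Fintype.card F) e u := by
    rw [hF]
    have := hP.pow 2 two_ne_zero
    rwa [Nat.gcd_comm, Nat.gcd_mul_right_right, Nat.mul_div_cancel_left _ (by norm_num)] at this
  refine miss_of_elt hPq he2 hen fun x hx hxu => ?_
  have h1 := odd_of_unitary hF hP he2 (by rw [Fintype.card_fin]; omega) hxu hσ hf (hM hx)
  exact (Nat.not_even_iff_odd.mpr h1) heo

theorem class1 (hn : 3 ≤ n) {M : Subgroup (Matrix.ProjectiveSpecialLinearGroup (Fin n) F)}
    {W : Submodule F (Fin n → F)} (hW0 : W ≠ ⊥) (hW1 : W ≠ ⊤) (hM : pre M ≤ subspaceStabilizer W) :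
    Miss M ∨ (Fintype.card F = 2 ∧ n = 6 ∧ (Module.finrank F W = 1 ∨ Module.finrank F W = 5)) := by
  have hq : 2 ≤ Fintype.card F := Fintype.one_lt_card
  have h1 : 0 < Module.finrank F W := Nat.pos_of_ne_zero fun h => hW0 (Submodule.finrank_eq_zero.mp h)
  have h2 : Module.finrank F W < n := by
    have := Submodule.finrank_lt hW1
    rwa [Module.finrank_fintype_fun_eq_card, Fintype.card_fin] at this
  by_cases hex : Fintype.card F = 2 ∧ n = 6
  · obtain ⟨hF, rfl⟩ := hex
    by_cases h3 : Module.finrank F W = 1 ∨ Module.finrank F W = 5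
    · exact Or.inr ⟨hF, rfl, h3⟩
    · left
      obtain ⟨u, hP⟩ := exists_ppd (q := Fintype.card F) (e := 5) hq (by norm_num) (by norm_num)
      refine miss_of_elt hP (by norm_num) (by norm_num) fun x hx hxu => ?_
      rcases le_finrank_of_mem_stabilizer hP hxu (mem_of_subspaceStabilizer (hM hx)) with h4 | h4
      · omega
      · rw [Fintype.card_fin] at h4; omega
  · left
    obtain ⟨u, hP⟩ := exists_ppd hq hn hex
    refine miss_of_elt hP (by omega) le_rfl fun x hx hxu => ?_
    rcases le_finrank_of_mem_stabilizer hP hxu (mem_of_subspaceStabilizer (hM hx)) with h4 | h4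
    · omega
    · rw [Fintype.card_fin] at h4; omega

/-- **Row EL-GEO-L.** -/
theorem geo (hn : 3 ≤ n) {M : Subgroup (Matrix.ProjectiveSpecialLinearGroup (Fin n) F)} (hM : IsCoatom M) :
    Miss M ∨
    (Fintype.card F = 2 ∧ n = 6 ∧ ∃ W : Submodule F (Fin n → F),
      (Module.finrank F W = 1 ∨ Module.finrank F W = 5) ∧ pre M = subspaceStabilizer W ⊓ specialLinear (Fin n) F) ∨
    InLinearResidualClass (pre M) := by
  rcases H915.sl_cases hn (isMaximalIn_pre hM) with ⟨W, h0, h1, h⟩ | ⟨t, m, D, htm, hD, -, -, h⟩ |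
    ⟨r, K, hr, hrn, hK, h⟩ | ⟨n₁, n₂, e, P, h1, h2, h3, -, h⟩ | ⟨F₀, r, P, hr, hF, h⟩ |
    ⟨r, k, p, e, R, hR, -, hro, -, hk, hnk, -, -, hZ, hc, h⟩ | ⟨k, R, hR, hnk, -, -, hZ, hc, h⟩ |
    ⟨m, t, e, P, hm, ht, hmt, h⟩ | ⟨f, hf, hne, h4, h⟩ | ⟨σ, f, hf, h⟩ | ⟨-, Q, hQ, h⟩ | h
  · rcases class1 hn h0 h1 (h.le.trans inf_le_left) with h2 | ⟨h2, h3, h4⟩
    · exact Or.inl h2
    · exact Or.inr (Or.inl ⟨h2, h3, W, h4, h⟩)
  · exact Or.inl (class2 hn htm hD (h.le.trans inf_le_left))
  · exact Or.inl (class3 hn hr hrn hK (h.le.trans inf_le_left))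
  · exact Or.inl (class4 hn h1 h2 h3 (h.le.trans inf_le_left))
  · exact Or.inl (class5 hn hr hF (h.le.trans inf_le_left))
  · exact Or.inl (class6 hn hR hro hk hnk hZ hc (h.le.trans inf_le_left))
  · exact Or.inl (class6' hn hR hnk hZ hc (h.le.trans inf_le_left))
  · exact Or.inl (class7 hn hm ht hmt (h.le.trans inf_le_left))
  · exact Or.inl (class8_symp hf hne h4 (h.le.trans inf_le_left))
  · exact Or.inl (class8_unit hn hf (h.le.trans inf_le_left))
  · exact Or.inl (class8_quad hn hQ (h.le.trans inf_le_left))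
  · exact Or.inr (Or.inr h)

end Cfsg.Agent.H304.GeoL
end

-- part: H304/L62
section
set_option linter.all false
open scoped Cfsg.Agent.FastGrp

/-!
# The point and hyperplane stabilisers of `PSL_6(2)` (helper304, TEAM ELUSIVE)

They contain no automorphic image of the cube of an element of order nine.
-/

set_option autoImplicit false
set_option linter.style.haveILetI false

namespace Cfsg.Agent.H304.L62

open Matrix Cfsg Cfsg.Geo Cfsg.Agent.H304.PslT

def B : Matrix (Fin 6) (Fin 6) (ZMod 2) :=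
  !![0,0,0,0,0,1; 1,0,0,0,0,0; 0,1,0,0,0,0; 0,0,1,0,0,1; 0,0,0,1,0,0; 0,0,0,0,1,0]

def C : Matrix (Fin 6) (Fin 6) (ZMod 2) :=
  !![0,0,0,1,0,0; 0,0,0,0,1,0; 0,0,0,0,0,1; 1,0,0,1,0,0; 0,1,0,0,1,0; 0,0,1,0,0,1]

theorem B3 : B * B * B = C := by decide

theorem C3 : C * C * C = 1 := by decide

theorem C_ne : C ≠ 1 := by decide

variable {F : Type*} [Field F] [Fintype F]

theorem charP_two (hF : Fintype.card F = 2) : CharP F 2 := by
  obtain ⟨p, hp⟩ := CharP.exists F
  have hpp := CharP.char_is_prime F p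
  obtain ⟨k, -, hk⟩ := FiniteField.card F p
  have : p ∣ 2 := by rw [← hF, hk]; exact dvd_pow_self p k.ne_zero
  have h2 : p = 2 := (Nat.prime_dvd_prime_iff_eq hpp Nat.prime_two).mp this
  rwa [← h2]

theorem exists_nine (hF : Fintype.card F = 2) : ∃ g : Matrix.SpecialLinearGroup (Fin 6) F, g ^ 9 = 1 ∧ g ^ 3 ≠ 1 := by
  haveI := charP_two hF
  let φ : ZMod 2 →+* F := ZMod.castHom (dvd_refl 2) F
  have hφ : Function.Injective φ := φ.injective
  set B' : Matrix (Fin 6) (Fin 6) F := φ.mapMatrix B with hB'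
  have h3 : B' ^ 3 = φ.mapMatrix C := by
    rw [hB', ← B3, pow_succ, pow_two, map_mul, map_mul]
  have h9 : B' ^ 9 = 1 := by
    rw [show 9 = 3 * 3 by norm_num, pow_mul, h3, pow_succ, pow_two, ← map_mul, ← map_mul, C3, map_one]
  have hdet : B'.det = 1 := by
    have h1 : B'.det ^ 9 = 1 := by rw [← Matrix.det_pow, h9, Matrix.det_one]
    have h2 : B'.det ≠ 0 := by
      intro h
      rw [h] at h1
      norm_num at h1
    have h4 := FiniteField.pow_card_sub_one_eq_one B'.det h2
    rwa [hF, show 2 - 1 = 1 by norm_num, pow_one] at h4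
  let g : Matrix.SpecialLinearGroup (Fin 6) F := ⟨B', hdet⟩
  have hg : (g : Matrix (Fin 6) (Fin 6) F) = B' := rfl
  refine ⟨g, ?_, ?_⟩
  · apply Subtype.ext
    have h1 := Matrix.SpecialLinearGroup.coe_pow g 9
    have h2 := Matrix.SpecialLinearGroup.coe_one (n := Fin 6) (R := F)
    exact h1.trans ((by rw [hg]; exact h9 : (g : Matrix (Fin 6) (Fin 6) F) ^ 9 = 1).trans h2.symm)
  · intro h
    have h0 : ((g ^ 3 : Matrix.SpecialLinearGroup (Fin 6) F) : Matrix (Fin 6) (Fin 6) F) = 1 := by
      rw [h]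
      exact Matrix.SpecialLinearGroup.coe_one (n := Fin 6) (R := F)
    have h1 : B' ^ 3 = 1 := (Matrix.SpecialLinearGroup.coe_pow g 3).symm.trans h0
    rw [h3] at h1
    apply C_ne
    have h2 : Function.Injective (φ.mapMatrix (m := Fin 6)) := Matrix.map_injective hφ
    apply h2
    rw [h1, map_one]

/-- an element of order nine: its cube has no fixed vectors -/
theorem eq_zero_of_fixed (hF : Fintype.card F = 2) {g : GL (Fin 6) F} (h9 : g ^ 9 = 1) (h3 : g ^ 3 ≠ 1)
    {v : Fin 6 → F} (hv : ((g ^ 3 : GL (Fin 6) F) : Matrix (Fin 6) (Fin 6) F) *ᵥ v = v) : v = 0 := by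
  classical
  haveI := charP_two hF
  set T : Matrix (Fin 6) (Fin 6) F := ((g ^ 3 : GL (Fin 6) F) : Matrix (Fin 6) (Fin 6) F) with hT
  have hT3 : T ^ 3 = 1 := by
    rw [hT, ← Units.val_pow_eq_pow_val, ← pow_mul, h9, Units.val_one]
  set D : Submodule F (Fin 6 → F) := LinearMap.range (Matrix.toLin' (T - 1)) with hD
  have hmem : ∀ w, w ∈ D ↔ ∃ a, T *ᵥ a - a = w := by
    intro w
    rw [hD, LinearMap.mem_range]
    simp [Matrix.toLin'_apply]
  have hfix : ∀ w ∈ D, T *ᵥ w = w → w = 0 := by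
    intro w hw hw1
    obtain ⟨a, rfl⟩ := (hmem w).mp hw
    set w := T *ᵥ a - a with hwd
    have h1 : (1 + T + T ^ 2) *ᵥ w = 0 := by
      have e1 : (1 + T + T ^ 2) * (T - 1) = 0 := by
        have : (1 + T + T ^ 2) * (T - 1) = T ^ 3 - 1 := by noncomm_ring
        rw [this, hT3, sub_self]
      have e2 : w = (T - 1) *ᵥ a := by rw [Matrix.sub_mulVec, Matrix.one_mulVec]
      rw [e2, Matrix.mulVec_mulVec, e1, Matrix.zero_mulVec]
    rw [Matrix.add_mulVec, Matrix.add_mulVec, Matrix.one_mulVec, pow_two, ← Matrix.mulVec_mulVec, hw1, hw1] at h1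
    have h2 : w + w = 0 := by
      rw [← two_smul F w, show (2 : F) = 0 from CharTwo.two_eq_zero, zero_smul]
    rwa [h2, zero_add] at h1
  have hginv : ∀ w ∈ D, (g : Matrix (Fin 6) (Fin 6) F) *ᵥ w ∈ D := by
    intro w hw
    obtain ⟨a, rfl⟩ := (hmem w).mp hw
    refine (hmem _).mpr ⟨(g : Matrix (Fin 6) (Fin 6) F) *ᵥ a, ?_⟩
    have e1 : T * (g : Matrix (Fin 6) (Fin 6) F) = (g : Matrix (Fin 6) (Fin 6) F) * T := by
      rw [hT, ← Units.val_mul, ← Units.val_mul, ← pow_succ, ← pow_succ']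
    rw [Matrix.mulVec_sub, Matrix.mulVec_mulVec, Matrix.mulVec_mulVec, e1]
  have hpow : ∀ (k : ℕ), ∀ w ∈ D, ((g ^ k : GL (Fin 6) F) : Matrix (Fin 6) (Fin 6) F) *ᵥ w ∈ D := by
    intro k
    induction k with
    | zero => intro w hw; simpa using hw
    | succ k ih =>
      intro w hw
      rw [pow_succ', Units.val_mul, ← Matrix.mulVec_mulVec]
      exact hginv _ (ih w hw)
  have ho : orderOf g = 9 := by
    haveI : Fact (Nat.Prime 3) := ⟨Nat.prime_three⟩
    have := orderOf_eq_prime_pow (x := g) (p := 3) (n := 1) (by simpa using h3) (by simpa using h9)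
    simpa using this
  have hz : ∀ a ∈ Subgroup.zpowers g, ∃ k : ℕ, k < 9 ∧ a = g ^ k := by
    intro a ha
    obtain ⟨k, hk, hka⟩ := (mem_zpowers_iff_mem_range_orderOf.mp ha : a ∈ (Finset.range (orderOf g)).image (g ^ ·)) |> Finset.mem_image.mp
    rw [ho, Finset.mem_range] at hk
    exact ⟨k, hk, hka.symm⟩
  let X := {w : Fin 6 → F // w ∈ D ∧ w ≠ 0}
  let act : MulAction (Subgroup.zpowers g) X :=
    { smul := fun a w => ⟨((a : GL (Fin 6) F) : Matrix (Fin 6) (Fin 6) F) *ᵥ w.1, by
        obtain ⟨k, -, hk⟩ := hz a a.2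
        rw [hk]
        exact hpow k _ w.2.1, by
        intro h0
        apply w.2.2
        have : (((a⁻¹ : Subgroup.zpowers g) : GL (Fin 6) F) : Matrix (Fin 6) (Fin 6) F) *ᵥ
            (((a : GL (Fin 6) F) : Matrix (Fin 6) (Fin 6) F) *ᵥ w.1) = w.1 := by
          rw [Matrix.mulVec_mulVec, ← Units.val_mul, ← Subgroup.coe_mul, inv_mul_cancel, Subgroup.coe_one,
            Units.val_one, Matrix.one_mulVec]
        rw [← this, h0, Matrix.mulVec_zero]⟩
      one_smul := fun w => Subtype.ext (by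
        show (((1 : Subgroup.zpowers g) : GL (Fin 6) F) : Matrix (Fin 6) (Fin 6) F) *ᵥ w.1 = w.1
        rw [Subgroup.coe_one, Units.val_one, Matrix.one_mulVec])
      mul_smul := fun a b w => Subtype.ext (by
        show (((a * b : Subgroup.zpowers g) : GL (Fin 6) F) : Matrix (Fin 6) (Fin 6) F) *ᵥ w.1 =
          ((a : GL (Fin 6) F) : Matrix (Fin 6) (Fin 6) F) *ᵥ (((b : GL (Fin 6) F) : Matrix (Fin 6) (Fin 6) F) *ᵥ w.1)
        rw [Subgroup.coe_mul, Units.val_mul, Matrix.mulVec_mulVec]) }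
  have hdvd : Nat.card (Subgroup.zpowers g) ∣ Nat.card X := by
    refine Cfsg.Agent.SuzukiRankOne.Translation.card_dvd_of_free (H := Subgroup.zpowers g) (X := X) ?_
    intro a w haw
    obtain ⟨k, hk9, hk⟩ := hz a a.2
    have h1 : ((g ^ k : GL (Fin 6) F) : Matrix (Fin 6) (Fin 6) F) *ᵥ w.1 = w.1 := by
      rw [← hk]
      exact congrArg Subtype.val haw
    have h2 : ∀ m : ℕ, ((g ^ (k * m) : GL (Fin 6) F) : Matrix (Fin 6) (Fin 6) F) *ᵥ w.1 = w.1 := by
      intro m
      induction m with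
      | zero => simp
      | succ m ih =>
        rw [mul_add, mul_one, pow_add, Units.val_mul, ← Matrix.mulVec_mulVec, h1, ih]
    by_contra hne
    have hk0 : k ≠ 0 := by
      rintro rfl
      apply hne
      apply Subtype.ext
      rw [hk, pow_zero, Subgroup.coe_one]
    obtain ⟨m, hm⟩ : ∃ m, (k * m) % 9 = 3 := by
      interval_cases k
      · exact absurd rfl hk0
      · exact ⟨3, rfl⟩
      · exact ⟨6, rfl⟩
      · exact ⟨1, rfl⟩
      · exact ⟨3, rfl⟩
      · exact ⟨6, rfl⟩
      · exact ⟨2, rfl⟩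
      · exact ⟨3, rfl⟩
      · exact ⟨6, rfl⟩
    have h4 := h2 m
    have h5 : g ^ (k * m) = g ^ 3 := by
      rw [← hm, ← ho, pow_mod_orderOf]
    rw [h5] at h4
    exact w.2.2 (hfix _ w.2.1 h4)
  have hcardX : Nat.card X = 2 ^ Module.finrank F D - 1 := by
    have h1 : Nat.card D = 2 ^ Module.finrank F D := by
      rw [Module.natCard_eq_pow_finrank (K := F), Nat.card_eq_fintype_card, hF]
    have e : X ≃ {w : D // w ≠ 0} :=
      { toFun := fun w => ⟨⟨w.1, w.2.1⟩, fun h => w.2.2 (congrArg Subtype.val h)⟩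
        invFun := fun w => ⟨w.1.1, w.1.2, fun h => w.2 (Subtype.ext h)⟩
        left_inv := fun w => rfl
        right_inv := fun w => rfl }
    rw [Nat.card_congr e, ← h1, Nat.card_eq_fintype_card, Nat.card_eq_fintype_card, Fintype.card_subtype_compl,
      Fintype.card_subtype_eq]
  rw [Nat.card_zpowers, ho, hcardX] at hdvd
  have hd6 : Module.finrank F D ≤ 6 := by
    have := Submodule.finrank_le D
    rwa [Module.finrank_fintype_fun_eq_card, Fintype.card_fin] at this
  have hD0 : D ≠ ⊥ := by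
    intro h0
    apply h3
    apply Units.ext
    rw [← hT, Units.val_one]
    have : Matrix.toLin' (T - 1) = 0 := LinearMap.range_eq_bot.mp h0
    have h6 : T - 1 = 0 := by
      apply (Matrix.toLin' (R := F) (m := Fin 6) (n := Fin 6)).injective
      rw [this, map_zero]
    exact sub_eq_zero.mp h6
  have hd0 : Module.finrank F D ≠ 0 := fun h => hD0 (Submodule.finrank_eq_zero.mp h)
  have hd : Module.finrank F D = 6 := by
    generalize Module.finrank F D = d at hdvd hd6 hd0
    interval_cases d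
    · exact absurd rfl hd0
    · norm_num at hdvd
    · norm_num at hdvd
    · norm_num at hdvd
    · norm_num at hdvd
    · norm_num at hdvd
    · rfl
  have hDtop : D = ⊤ := by
    apply Submodule.eq_top_of_finrank_eq
    rw [hd, Module.finrank_fintype_fun_eq_card, Fintype.card_fin]
  exact hfix v (by rw [hDtop]; trivial) hv

/-- elements of order three in the stabiliser of a point or a hyperplane have fixed vectors -/
theorem exists_fixed (hF : Fintype.card F = 2) {t : GL (Fin 6) F} (ht : t ^ 3 = 1) {W : Submodule F (Fin 6 → F)}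
    (hW : Module.finrank F W = 1 ∨ Module.finrank F W = 5) (htW : t ∈ subspaceStabilizer W) :
    ∃ v : Fin 6 → F, v ≠ 0 ∧ (t : Matrix (Fin 6) (Fin 6) F) *ᵥ v = v := by
  classical
  haveI := charP_two hF
  have htwo : ∀ {α : Type _} [Fintype α] (c a b : α), Fintype.card α = 2 → a ≠ c → b ≠ c → a = b := by
    intro α _ c a b h ha hb
    by_contra hab
    have h1 : ({a, b, c} : Finset α).card = 3 := by
      rw [Finset.card_insert_of_notMem (by simp [hab, ha]), Finset.card_insert_of_notMem (by simp [hb]),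
        Finset.card_singleton]
    have h2 := Finset.card_le_univ ({a, b, c} : Finset α)
    omega
  rcases hW with hW | hW
  · have hcard : Fintype.card W = 2 := by
      rw [Module.card_eq_pow_finrank (K := F), hW, hF, pow_one]
    obtain ⟨w, hw0⟩ : ∃ w : W, w ≠ 0 := by
      haveI : Nontrivial W := Fintype.one_lt_card_iff_nontrivial.mp (by omega)
      exact exists_ne 0
    refine ⟨w, fun h => hw0 (Subtype.ext h), ?_⟩
    have h1 : (t : Matrix (Fin 6) (Fin 6) F) *ᵥ (w : Fin 6 → F) ∈ W := (htW w).mp w.2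
    have h2 : (⟨_, h1⟩ : W) ≠ 0 := by
      intro h
      have h3 : (t : Matrix (Fin 6) (Fin 6) F) *ᵥ (w : Fin 6 → F) = 0 := congrArg Subtype.val h
      apply hw0
      apply Subtype.ext
      have : ((t⁻¹ : GL (Fin 6) F) : Matrix (Fin 6) (Fin 6) F) *ᵥ ((t : Matrix (Fin 6) (Fin 6) F) *ᵥ (w : Fin 6 → F)) = w := by
        rw [Matrix.mulVec_mulVec, ← Units.val_mul, inv_mul_cancel, Units.val_one, Matrix.one_mulVec]
      rw [← this, h3, Matrix.mulVec_zero]
      rfl
    exact congrArg Subtype.val (htwo 0 ⟨_, h1⟩ w hcard h2 hw0)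
  · have hfq : Module.finrank F ((Fin 6 → F) ⧸ W) = 1 := by
      have := Submodule.finrank_quotient_add_finrank W
      rw [Module.finrank_fintype_fun_eq_card, Fintype.card_fin, hW] at this
      omega
    haveI : Fintype ((Fin 6 → F) ⧸ W) := Fintype.ofFinite _
    have hcard : Fintype.card ((Fin 6 → F) ⧸ W) = 2 := by
      rw [Module.card_eq_pow_finrank (K := F), hfq, hF, pow_one]
    obtain ⟨v, hv⟩ : ∃ v, v ∉ W := by
      by_contra h
      push Not at h
      have : W = ⊤ := (Submodule.eq_top_iff').mpr h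
      rw [this, finrank_top, Module.finrank_fintype_fun_eq_card, Fintype.card_fin] at hW
      omega
    set T : Matrix (Fin 6) (Fin 6) F := (t : Matrix (Fin 6) (Fin 6) F) with hT
    have hT3 : T ^ 3 = 1 := by rw [hT, ← Units.val_pow_eq_pow_val, ht, Units.val_one]
    have h1 : ∀ w, w ∉ W → T *ᵥ w - w ∈ W := by
      intro w hw
      have h2 : T *ᵥ w ∉ W := fun h => hw ((htW w).mpr h)
      have h3 := htwo (0 : (Fin 6 → F) ⧸ W) (Submodule.Quotient.mk (T *ᵥ w)) (Submodule.Quotient.mk w) hcard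
        (fun h => h2 ((Submodule.Quotient.mk_eq_zero W).mp h)) (fun h => hw ((Submodule.Quotient.mk_eq_zero W).mp h))
      exact (Submodule.Quotient.eq W).mp h3
    have h2 : T *ᵥ v ∉ W := fun h => hv ((htW v).mpr h)
    refine ⟨v + T *ᵥ v + T *ᵥ (T *ᵥ v), ?_, ?_⟩
    · intro h0
      apply h2
      have h3 := h1 _ h2
      have h4 : T *ᵥ v = (v + T *ᵥ v + T *ᵥ (T *ᵥ v)) - (T *ᵥ (T *ᵥ v) - T *ᵥ v) + (T *ᵥ v - v) - (T *ᵥ v + T *ᵥ v) := by
        abel
      have h5 : T *ᵥ v + T *ᵥ v = 0 := by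
        rw [← two_smul F (T *ᵥ v), show (2 : F) = 0 from CharTwo.two_eq_zero, zero_smul]
      rw [h4, h0, h5, sub_zero, zero_sub]
      exact W.add_mem (W.neg_mem h3) (h1 v hv)
    · rw [Matrix.mulVec_add, Matrix.mulVec_add]
      have h3 : T *ᵥ (T *ᵥ (T *ᵥ v)) = v := by
        rw [Matrix.mulVec_mulVec, Matrix.mulVec_mulVec, ← pow_two, ← pow_succ, hT3, Matrix.one_mulVec]
      rw [h3]
      abel

theorem pr_injective (hF : Fintype.card F = 2) {n : ℕ} : Function.Injective (pr n F) := by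
  rw [injective_iff_map_eq_one]
  intro a ha
  have h1 : a ∈ Subgroup.center (Matrix.SpecialLinearGroup (Fin n) F) := (QuotientGroup.eq_one_iff a).mp ha
  rw [Matrix.SpecialLinearGroup.mem_center_iff] at h1
  obtain ⟨r, hr, hra⟩ := h1
  by_cases hr0 : r = 0
  · rw [hr0] at hr
    rcases Nat.eq_zero_or_pos n with h0 | h0
    · subst h0
      exact Subsingleton.elim _ _
    · rw [Fintype.card_fin, zero_pow h0.ne'] at hr
      exact absurd hr zero_ne_one
  · have h4 := FiniteField.pow_card_sub_one_eq_one r hr0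
    rw [hF, show 2 - 1 = 1 by norm_num, pow_one] at h4
    apply Subtype.ext
    rw [← hra, h4]
    simp

/-- **the point and hyperplane stabilisers of `PSL_6(2)`** -/
theorem der {F : Type*} [Field F] [Fintype F] (hF : Fintype.card F = 2)
    {M : Subgroup (Matrix.ProjectiveSpecialLinearGroup (Fin 6) F)} {W : Submodule F (Fin 6 → F)}
    (hW : Module.finrank F W = 1 ∨ Module.finrank F W = 5) (hM : pre M ≤ subspaceStabilizer W) :
    Cfsg.Agent.H396.Der (Matrix.ProjectiveSpecialLinearGroup (Fin 6) F) M := by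
  obtain ⟨g, h9, h3⟩ := exists_nine hF
  have hinj := pr_injective (n := 6) hF
  refine ⟨pr 6 F g ^ 3, ?_, ?_⟩
  · have : orderOf (pr 6 F g ^ 3) = 3 := by
      haveI : Fact (Nat.Prime 3) := ⟨Nat.prime_three⟩
      refine orderOf_eq_prime ?_ ?_
      · rw [← pow_mul, ← map_pow, h9, map_one]
      · rw [← map_pow]
        intro h
        exact h3 (hinj (by rw [h, map_one]))
    rw [this]
    exact Nat.prime_three
  · intro φ hφ
    obtain ⟨a, ha⟩ := QuotientGroup.mk'_surjective (Subgroup.center (Matrix.SpecialLinearGroup (Fin 6) F)) (φ (pr 6 F g))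
    have ha9 : a ^ 9 = 1 := by
      apply hinj
      rw [map_pow, map_one]
      show pr 6 F a ^ 9 = 1
      rw [show pr 6 F a = φ (pr 6 F g) from ha, ← map_pow, ← map_pow, h9, map_one, map_one]
    have ha3 : a ^ 3 ≠ 1 := by
      intro h
      have h1 : φ (pr 6 F g) ^ 3 = 1 := by
        rw [← ha]
        show pr 6 F a ^ 3 = 1
        rw [← map_pow, h, map_one]
      rw [← map_pow, ← map_pow] at h1
      have h2 : pr 6 F (g ^ 3) = 1 := φ.injective (by rw [h1, map_one])
      exact h3 (hinj (by rw [h2, map_one]))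
    have hmem : Matrix.SpecialLinearGroup.toGL (a ^ 3) ∈ pre M := by
      refine ⟨a ^ 3, ?_, rfl⟩
      show pr 6 F (a ^ 3) ∈ M
      rw [map_pow, show pr 6 F a = φ (pr 6 F g) from ha, ← map_pow]
      exact hφ
    set b := Matrix.SpecialLinearGroup.toGL a with hb
    have hb9 : b ^ 9 = 1 := by rw [hb, ← map_pow, ha9, map_one]
    have hb3 : b ^ 3 ≠ 1 := by
      intro h
      apply ha3
      apply toGL_injective
      rw [map_pow, map_one]
      exact h
    obtain ⟨v, hv0, hv⟩ := exists_fixed hF (t := b ^ 3) (by rw [← pow_mul]; exact hb9) hW (by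
      have := hM hmem
      rwa [map_pow] at this)
    exact hv0 (eq_zero_of_fixed hF hb9 hb3 hv)

end Cfsg.Agent.H304.L62

namespace Cfsg.Agent.H304.GeoL

open Matrix Cfsg Cfsg.Geo Cfsg.Agent.H304.PslT

/-- **Row EL-GEO-L, final form**: every geometric maximal subgroup `M` of `PSL_n(q)`, `n ≥ 3`, misses an
`Aut`-class of elements of prime order. -/
theorem der_or_residual {F : Type*} [Field F] [Fintype F] {n : ℕ} (hn : 3 ≤ n)
    {M : Subgroup (Matrix.ProjectiveSpecialLinearGroup (Fin n) F)} (hM : IsCoatom M) :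
    Cfsg.Agent.H396.Der (Matrix.ProjectiveSpecialLinearGroup (Fin n) F) M ∨ InLinearResidualClass (pre M) := by
  rcases geo hn hM with ⟨u, hu, h1, h2⟩ | ⟨hF, rfl, W, hW, h⟩ | h
  · left
    haveI : Finite (Matrix.ProjectiveSpecialLinearGroup (Fin n) F) := by
      classical
      exact Quotient.finite _
    exact Cfsg.Agent.H396.der_of_prime hu h1 h2
  · exact Or.inl (L62.der hF hW (h.le.trans inf_le_left))
  · exact Or.inr h

end Cfsg.Agent.H304.GeoL
end
end
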