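import Mathlib
set_option linter.all false

/-!
# `GL(5,2)`: order, and its 3-elements have order at most 3

`PSL(2,8)` has an element of order 9.
-/

set_option autoImplicit false

namespace Cfsg.Agent.H304.GL52

open Matrix

theorem card_gl : Nat.card (GL (Fin 5) (ZMod 2)) = 9999360 := by
  rw [Matrix.card_GL_field, Fin.prod_univ_five]
  simp [ZMod.card]

def MA : Matrix (Fin 5) (Fin 5) (ZMod 2) := !![0,1,0,0,0; 1,1,0,0,0; 0,0,1,0,0; 0,0,0,1,0; 0,0,0,0,1]
def MA' : Matrix (Fin 5) (Fin 5) (ZMod 2) := !![1,1,0,0,0; 1,0,0,0,0; 0,0,1,0,0; 0,0,0,1,0; 0,0,0,0,1]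
def MB : Matrix (Fin 5) (Fin 5) (ZMod 2) := !![1,0,0,0,0; 0,1,0,0,0; 0,0,0,1,0; 0,0,1,1,0; 0,0,0,0,1]
def MB' : Matrix (Fin 5) (Fin 5) (ZMod 2) := !![1,0,0,0,0; 0,1,0,0,0; 0,0,1,1,0; 0,0,1,0,0; 0,0,0,0,1]

theorem hA1 : MA * MA' = 1 := by decide +kernel
theorem hA2 : MA' * MA = 1 := by decide +kernel
theorem hB1 : MB * MB' = 1 := by decide +kernel
theorem hB2 : MB' * MB = 1 := by decide +kernel

def A : GL (Fin 5) (ZMod 2) := ⟨MA, MA', hA1, hA2⟩
def B : GL (Fin 5) (ZMod 2) := ⟨MB, MB', hB1, hB2⟩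

theorem hA3 : A ^ 3 = 1 := by
  apply Units.ext
  show MA ^ 3 = 1
  decide +kernel
theorem hB3 : B ^ 3 = 1 := by
  apply Units.ext
  show MB ^ 3 = 1
  decide +kernel
theorem hAB : A * B = B * A := by
  apply Units.ext
  show MA * MB = MB * MA
  decide +kernel

theorem inj : ∀ i j i' j' : Fin 3, MA ^ i.1 * MB ^ j.1 = MA ^ i'.1 * MB ^ j'.1 → i = i' ∧ j = j' := by
  decide +kernel

/-- the subgroup `⟨A, B⟩`. -/
def E : Subgroup (GL (Fin 5) (ZMod 2)) where
  carrier := {g | ∃ i j : ℕ, g = A ^ i * B ^ j}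
  one_mem' := ⟨0, 0, by simp⟩
  mul_mem' := by
    rintro _ _ ⟨i, j, rfl⟩ ⟨k, l, rfl⟩
    refine ⟨i + k, j + l, ?_⟩
    have h : Commute (B ^ j) (A ^ k) := (Commute.symm (show Commute A B from hAB)).pow_pow j k
    calc A ^ i * B ^ j * (A ^ k * B ^ l) = A ^ i * (B ^ j * A ^ k) * B ^ l := by group
      _ = A ^ i * (A ^ k * B ^ j) * B ^ l := by rw [h.eq]
      _ = A ^ (i + k) * B ^ (j + l) := by rw [pow_add, pow_add]; group
  inv_mem' := by
    rintro _ ⟨i, j, rfl⟩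
    refine ⟨2 * i, 2 * j, ?_⟩
    have hA : A⁻¹ = A ^ 2 := by
      rw [inv_eq_iff_mul_eq_one, ← pow_succ', hA3]
    have hB : B⁻¹ = B ^ 2 := by
      rw [inv_eq_iff_mul_eq_one, ← pow_succ', hB3]
    have h : Commute (B ^ (2 * j)) (A ^ (2 * i)) := (Commute.symm (show Commute A B from hAB)).pow_pow _ _
    rw [_root_.mul_inv_rev, ← inv_pow, ← inv_pow, hA, hB, ← pow_mul, ← pow_mul, h.eq]

theorem E_cube : ∀ g ∈ E, g ^ 3 = 1 := by
  rintro _ ⟨i, j, rfl⟩
  have h : Commute (A ^ i) (B ^ j) := (show Commute A B from hAB).pow_pow i j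
  rw [h.mul_pow, ← pow_mul, ← pow_mul, mul_comm i, mul_comm j, pow_mul, pow_mul, hA3, hB3, one_pow, one_pow,
    one_mul]

theorem card_E : 9 ≤ Nat.card ↥E := by
  have h : Function.Injective (fun x : Fin 3 × Fin 3 => (⟨A ^ x.1.1 * B ^ x.2.1, x.1.1, x.2.1, rfl⟩ : ↥E)) := by
    rintro ⟨i, j⟩ ⟨i', j'⟩ hx
    have h1 : A ^ i.1 * B ^ j.1 = A ^ i'.1 * B ^ j'.1 := congrArg Subtype.val hx
    have h2 : MA ^ i.1 * MB ^ j.1 = MA ^ i'.1 * MB ^ j'.1 := by
      have h5 := congrArg Units.val h1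
      rw [Units.val_mul, Units.val_mul, Units.val_pow_eq_pow_val, Units.val_pow_eq_pow_val,
        Units.val_pow_eq_pow_val, Units.val_pow_eq_pow_val] at h5
      exact h5
    obtain ⟨h3, h4⟩ := inj i j i' j' h2
    rw [h3, h4]
  have h1 := Nat.card_le_card_of_injective _ h
  simpa using h1

/-- the 3-elements of `GL(5,2)` have cube 1. -/
theorem cube_eq_one {g : GL (Fin 5) (ZMod 2)} {k : ℕ} (hg : g ^ 3 ^ k = 1) : g ^ 3 = 1 := by
  have h3 : Fact (Nat.Prime 3) := ⟨Nat.prime_three⟩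
  have hEp : IsPGroup 3 ↥E := fun e => ⟨1, Subtype.ext (by
    simpa using E_cube e e.2)⟩
  obtain ⟨P, hP⟩ := hEp.exists_le_sylow
  have hPc : Nat.card ↥(P : Subgroup (GL (Fin 5) (ZMod 2))) = 9 := by
    rw [P.card_eq_multiplicity, card_gl]
    have : (9999360 : ℕ) = 3 ^ 2 * 1111040 := by norm_num
    rw [this, Nat.factorization_mul (by norm_num) (by norm_num), Finsupp.add_apply,
      Nat.Prime.factorization_pow Nat.prime_three, Finsupp.single_eq_same,
      Nat.factorization_eq_zero_of_not_dvd (by norm_num : ¬ 3 ∣ 1111040)]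
    norm_num
  have hEP : E = (P : Subgroup (GL (Fin 5) (ZMod 2))) := by
    apply Subgroup.eq_of_le_of_card_ge hP
    rw [hPc]
    exact card_E
  have hgp : IsPGroup 3 ↥(Subgroup.zpowers g) := by
    have h1 : orderOf g ∣ 3 ^ k := orderOf_dvd_of_pow_eq_one hg
    obtain ⟨j, -, hj⟩ := (Nat.dvd_prime_pow Nat.prime_three).mp h1
    exact IsPGroup.of_card (n := j) (by rw [Nat.card_zpowers, hj])
  obtain ⟨Q, hQ⟩ := hgp.exists_le_sylow
  obtain ⟨c, hc⟩ := MulAction.exists_smul_eq (GL (Fin 5) (ZMod 2)) Q P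
  have h1 : c * g * c⁻¹ ∈ E := by
    rw [hEP, ← hc]
    exact ⟨g, hQ (Subgroup.mem_zpowers g), rfl⟩
  have h2 := E_cube _ h1
  rw [conj_pow] at h2
  have h4 := congrArg (fun w => c⁻¹ * w * c) h2
  simpa [mul_assoc] using h4

section F8

variable {F : Type*} [Field F] [Fintype F]

/-- a field with 8 elements has a root of `t³ + t + 1`. -/
theorem exists_root (hF : Fintype.card F = 8) : (2 : F) = 0 ∧ ∃ t : F, t ^ 3 + t + 1 = 0 := by
  have h2 : (2 : F) = 0 := by
    have h8 : ((Fintype.card F : ℕ) : F) = 0 := Nat.cast_card_eq_zero F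
    rw [hF] at h8
    have : (2 : F) ^ 3 = 0 := by
      have e : ((8 : ℕ) : F) = (2 : F) ^ 3 := by push_cast; norm_num
      rw [← e]; exact h8
    exact pow_eq_zero_iff (by norm_num) |>.mp this
  refine ⟨h2, ?_⟩
  classical
  obtain ⟨a, ha⟩ : ∃ a : F, a ∉ ({0, 1} : Finset F) := by
    by_contra hcon
    push Not at hcon
    have h1 : Fintype.card F ≤ ({0, 1} : Finset F).card := by
      rw [← Finset.card_univ]
      exact Finset.card_le_card (fun x _ => hcon x)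
    have h3 : ({0, 1} : Finset F).card ≤ 2 := Finset.card_le_two
    omega
  simp only [Finset.mem_insert, Finset.mem_singleton, not_or] at ha
  obtain ⟨ha0, ha1⟩ := ha
  have h8 : a ^ 8 = a := by rw [← hF]; exact FiniteField.pow_card a
  have h7 : (a ^ 3 + a + 1) * (a ^ 3 + a ^ 2 + 1) = 0 := by
    have h3 : a * (a - 1) * ((a ^ 3 + a + 1) * (a ^ 3 + a ^ 2 + 1)) = 0 := by
      linear_combination h8 + (a ^ 5 - a ^ 4) * h2
    have h4 : a * (a - 1) ≠ 0 := mul_ne_zero ha0 (sub_ne_zero.mpr ha1)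
    exact (mul_eq_zero.mp h3).resolve_left h4
  rcases mul_eq_zero.mp h7 with h | h
  · exact ⟨a, h⟩
  · refine ⟨a⁻¹, ?_⟩
    have h5 : a ^ 3 * (a⁻¹ ^ 3 + a⁻¹ + 1) = a ^ 3 + a ^ 2 + 1 := by
      field_simp
      ring
    have h6 : a ^ 3 * (a⁻¹ ^ 3 + a⁻¹ + 1) = 0 := by rw [h5, h]
    exact (mul_eq_zero.mp h6).resolve_left (pow_ne_zero 3 ha0)

/-- `PSL(2,8)` has an element of order 9. -/
theorem exists_nine (hF : Fintype.card F = 8) :
    ∃ x : Matrix.ProjectiveSpecialLinearGroup (Fin 2) F, x ^ 9 = 1 ∧ x ^ 3 ≠ 1 := by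
  classical
  obtain ⟨h2, t, ht⟩ := exists_root hF
  have hneg : ∀ y : F, -y = y := fun y => by linear_combination (-y) * h2
  let M : Matrix.SpecialLinearGroup (Fin 2) F := ⟨!![0, 1; 1, t], by
    rw [Matrix.det_fin_two_of]; linear_combination (-1 : F) * h2⟩
  have hM3 : ((M ^ 3 : Matrix.SpecialLinearGroup (Fin 2) F) : Matrix (Fin 2) (Fin 2) F) =
      !![t, t ^ 2 + 1; t ^ 2 + 1, t + 1] := by
    rw [Matrix.SpecialLinearGroup.coe_pow, pow_succ, pow_two]
    show !![0, 1; 1, t] * !![0, 1; 1, t] * !![0, 1; 1, t] = _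
    rw [Matrix.mul_fin_two, Matrix.mul_fin_two]
    ext i j
    fin_cases i <;> fin_cases j
    · simp
    · simp; ring
    · simp; ring
    · simp
      linear_combination ht - h2
  have hN2 : !![t, t ^ 2 + 1; t ^ 2 + 1, t + 1] * !![t, t ^ 2 + 1; t ^ 2 + 1, t + 1] =
      !![t + 1, t ^ 2 + 1; t ^ 2 + 1, t] := by
    rw [Matrix.mul_fin_two]
    ext i j
    fin_cases i <;> fin_cases j
    · simp only [Fin.zero_eta, Matrix.of_apply, Matrix.cons_val_zero, Matrix.cons_val', Matrix.cons_val_fin_one]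
      linear_combination t * ht + (t ^ 2 - t) * h2
    · simp
      linear_combination (t * (t ^ 2 + 1)) * h2
    · simp
      linear_combination (t * (t ^ 2 + 1)) * h2
    · simp
      linear_combination t * ht + (t ^ 2 + 1) * h2
  have hM9 : M ^ 9 = 1 := by
    apply Subtype.ext
    have h9 : M ^ 9 = M ^ 3 * M ^ 3 * M ^ 3 := by rw [← pow_add, ← pow_add]
    rw [h9, Matrix.SpecialLinearGroup.coe_mul, Matrix.SpecialLinearGroup.coe_mul, hM3, hN2,
      Matrix.mul_fin_two, Matrix.SpecialLinearGroup.coe_one, Matrix.one_fin_two]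
    ext i j
    fin_cases i <;> fin_cases j
    · simp
      linear_combination t * ht + t ^ 2 * h2
    · simp
      linear_combination ((t ^ 2 + 1) * (t + 1)) * h2
    · simp
      linear_combination (t * (t ^ 2 + 1)) * h2
    · simp
      linear_combination t * ht + t ^ 2 * h2
  refine ⟨QuotientGroup.mk M, ?_, ?_⟩
  · rw [← QuotientGroup.mk_pow, hM9]; rfl
  · rw [← QuotientGroup.mk_pow]
    intro h
    have h1 : M ^ 3 ∈ Subgroup.center (Matrix.SpecialLinearGroup (Fin 2) F) :=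
      (QuotientGroup.eq_one_iff _).mp h
    obtain ⟨r, -, hr⟩ := Matrix.SpecialLinearGroup.mem_center_iff.mp h1
    rw [hM3] at hr
    have h3 := congrFun (congrFun hr 0) 1
    simp at h3
    have h4 : (t + 1) ^ 2 = 0 := by linear_combination (-1 : F) * h3 + t * h2
    have h5 : t + 1 = 0 := pow_eq_zero_iff (by norm_num) |>.mp h4
    exact one_ne_zero (α := F) (by linear_combination (t ^ 2 - t + 2) * h5 - ht)

end F8

end Cfsg.Agent.H304.GL52
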